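import Cfsg.Agent.Lib.M12Uniq.Setup
import Cfsg.Agent.Lib.M12Uniq.Congr
import Cfsg.Agent.Lib.DefOne.General
import Cfsg.Agent.Lib.Blocks.DefectZeroBound

/-!
Sums of character values over a subgroup of prime order: the principal families and a bound
from the orthogonality of the columns.
-/

set_option linter.unusedSectionVars false
set_option linter.style.haveILetI false

namespace Cfsg.Agent.M23Uniq

open Cfsg Cfsg.Agent.Char Cfsg.Agent.Blocks Cfsg.Agent.DefOne Cfsg.Agent.DefectZero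

open scoped ComplexConjugate

universe u

variable {G : Type u} [Group G] [Fintype G]

/-- The sum of the values of a character over the nontrivial elements of a subgroup. -/
noncomputable def tsum' (P : Subgroup G) [Fintype P] (χ : IrrCharacter G) : ℂ :=
  ∑ y : P, (χ : G → ℂ) y - (charDegree (χ : G → ℂ) : ℂ)

/-- The signed degree residue: `1` or `-1` times one. -/
def sgn (p d : ℕ) : ℤ := if d % p = 1 then 1 else -1

theorem tsum'_eq (P : Subgroup G) [Fintype P] [DecidableEq P] (χ : IrrCharacter G) :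
    tsum' P χ = ∑ y ∈ (Finset.univ : Finset P).erase 1, (χ : G → ℂ) y := by
  rw [tsum', ← Finset.add_sum_erase _ _ (Finset.mem_univ (1 : P)), OneMemClass.coe_one,
    irr_one_eq_charDegree, add_sub_cancel_left]

theorem sgn_eq {p : ℕ} (hp : 2 < p) {d : ℕ} {s : ℤ} (hs : s = 1 ∨ s = -1) (h : (d : ℤ) ≡ s [ZMOD p]) :
    sgn p d = s ∧ (d % p = 1 ∨ d % p = p - 1) := by
  have h1 : ((d % p : ℕ) : ℤ) = s % (p : ℤ) := by push_cast; exact h
  rcases hs with rfl | rfl
  · have h2 : (1 : ℤ) % (p : ℤ) = 1 := Int.emod_eq_of_lt (by norm_num) (by omega)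
    have h3 : d % p = 1 := by omega
    exact ⟨by rw [sgn, if_pos h3], Or.inl h3⟩
  · have h2 : (-1 : ℤ) % (p : ℤ) = (p : ℤ) - 1 := by
      rw [← Int.add_emod_right]
      rw [show -1 + (p : ℤ) = (p : ℤ) - 1 by ring]
      exact Int.emod_eq_of_lt (by omega) (by omega)
    have h3 : d % p = p - 1 := by omega
    exact ⟨by rw [sgn, if_neg (by omega)], Or.inr h3⟩

section Bound

variable {p : ℕ} [Fact p.Prime]

/-- The sum over all characters of `r (p - r)` is bounded by the centraliser order. -/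
theorem sum_residue_le (P : Subgroup G) [Fintype P] (hP : Nat.card P = p) {c : ℕ}
    (hc : ∀ y : G, y ∈ P → y ≠ 1 → Nat.card (Subgroup.centralizer ({y} : Set G)) = c) :
    ∑ χ : IrrCharacter G, (charDegree (χ : G → ℂ) % p) * (p - charDegree (χ : G → ℂ) % p) ≤ (p - 1) * c := by
  classical
  have hp := (Fact.out : p.Prime)
  have hle : ∀ χ : IrrCharacter G,
      (((charDegree (χ : G → ℂ) % p) * (p - charDegree (χ : G → ℂ) % p) : ℕ) : ℝ) ≤
        ∑ u : P, (if u = 1 then 0 else Complex.normSq ((χ : G → ℂ) u)) := fun χ => by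
    have h := (restrict_bound (IsIrrCharacter.isCharacter χ.2) (irr_one_eq_charDegree χ) P hP 1 one_ne_zero
      (Nat.coprime_one_left p) (fun u _ => by
        rw [Nat.cast_one, div_one]
        exact IsCharacter.isIntegral (IsIrrCharacter.isCharacter χ.2) (u : G))
      (Nat.mod_lt _ hp.pos) (by rw [one_mul, Nat.mod_mod])).1
    simpa using h
  have hsum : ∑ χ : IrrCharacter G, ∑ u : P, (if u = 1 then 0 else Complex.normSq ((χ : G → ℂ) u)) =
      (((p - 1) * c : ℕ) : ℝ) := by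
    rw [Finset.sum_comm, ← Finset.add_sum_erase _ _ (Finset.mem_univ (1 : P)), Finset.sum_eq_zero fun χ _ => if_pos rfl,
      zero_add, Finset.sum_congr rfl fun u hu => show _ = (c : ℝ) by
        have hu1 : (u : G) ≠ 1 := fun h => Finset.ne_of_mem_erase hu (Subtype.ext h)
        simp only [if_neg (Finset.ne_of_mem_erase hu)]
        have h := column_orth_of_isConj (IsConj.refl (u : G))
        rw [hc u u.2 hu1] at h
        simp only [Complex.mul_conj] at h
        exact_mod_cast h,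
      Finset.sum_const, Finset.card_erase_of_mem (Finset.mem_univ _), Finset.card_univ,
      ← Nat.card_eq_fintype_card, hP, nsmul_eq_mul, Nat.cast_mul]
  have h : (((∑ χ : IrrCharacter G, (charDegree (χ : G → ℂ) % p) * (p - charDegree (χ : G → ℂ) % p)) : ℕ) : ℝ) ≤
      (((p - 1) * c : ℕ) : ℝ) := by
    rw [← hsum, Nat.cast_sum]
    exact Finset.sum_le_sum fun χ _ => hle χ
  exact_mod_cast h

end Bound

section Families

variable {p : ℕ} {M : Ideal AlgInt} [M.IsPrime] (hM : IsPModular p M)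
  {P V N : Subgroup G} {e : ℕ} (K : Conf p P V N e)
  [Fintype P] [Fintype V] [Fintype N] [Fintype (P →* ℂˣ)]

include hM K

theorem tsum'_principal {χ : IrrCharacter G} (hχ : χ ∈ principalBlock M G) :
    tsum' P χ = ((∑ l, acoef K χ (trivB V) l : ℤ) : ℂ) := by
  classical
  rw [tsum'_eq, Finset.sum_congr rfl fun y hy => show _ = -∑ l : P →* ℂˣ, (acoef K χ (trivB V) l : ℂ) * (l y : ℂ) by
    rw [← phi_principal K hM hχ (Finset.ne_of_mem_erase hy), phi_eq_acoef K χ _ (Finset.ne_of_mem_erase hy)],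
    Finset.sum_neg_distrib, Finset.sum_comm, Int.cast_sum, ← Finset.sum_neg_distrib]
  refine Finset.sum_congr rfl fun l _ => ?_
  rw [← Finset.mul_sum]
  by_cases hl : l = 1
  · subst hl; simp [acoef_one]
  obtain ⟨y₀, hy₀⟩ : ∃ y, l y ≠ 1 := not_forall.1 fun h => hl (MonoidHom.ext h)
  have h0 : ∑ y : P, ((l y : ℂˣ) : ℂ) = 0 := by
    have h1 : ((l y₀ : ℂˣ) : ℂ) * ∑ y : P, ((l y : ℂˣ) : ℂ) = ∑ y : P, ((l y : ℂˣ) : ℂ) := by
      rw [Finset.mul_sum]
      exact Fintype.sum_equiv (Equiv.mulLeft y₀) _ _ fun y => by simp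
    exact (mul_eq_zero.1 (show (((l y₀ : ℂˣ) : ℂ) - 1) * ∑ y : P, ((l y : ℂˣ) : ℂ) = 0 by
      rw [sub_mul, one_mul, h1, sub_self])).resolve_left fun h => hy₀ (Units.ext (sub_eq_zero.1 h))
  rw [← Finset.add_sum_erase _ _ (Finset.mem_univ (1 : P)), map_one, Units.val_one] at h0
  linear_combination (-(acoef K χ (trivB V) l : ℂ)) * h0

theorem tsum'_of_dvd {χ : IrrCharacter G} (h : p ∣ charDegree (χ : G → ℂ)) : tsum' P χ = 0 := by
  classical
  rw [tsum'_eq]
  refine Finset.sum_eq_zero fun y hy => ?_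
  have := section_zero_of_dvd K hM h (Finset.ne_of_mem_erase hy) (1 : V)
  rwa [OneMemClass.coe_one, mul_one] at this

theorem mem_principal_of_self_centralizing (hV : Nat.card V = 1) {χ : IrrCharacter G}
    (h : ¬ p ∣ charDegree (χ : G → ℂ)) : χ ∈ principalBlock M G := by
  classical
  obtain ⟨eb, X, Y, δ, sg, F⟩ := exists_families K hM (trivB V)
  obtain ⟨b, hb⟩ := exists_inR K hM h
  haveI : Subsingleton V := (Nat.card_eq_one_iff_unique.1 hV).1
  have hb0 : b = trivB V := Subtype.ext (funext fun z => by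
    rw [show z = 1 from Subsingleton.elim _ _, degree_one_of_comm (fun _ _ => Subsingleton.elim _ _) b.2]
    rfl)
  subst hb0
  rw [principal_eq K hM F]
  exact (mem_iff_inR K F χ).2 hb

/-- The principal families with their sums over `P`. -/
structure PFam (p e : ℕ) (P : Subgroup G) [Fintype P] (X Y : Finset (IrrCharacter G)) (δ : ℤ) : Prop where
  sign : δ = 1 ∨ δ = -1
  disj : Disjoint X Y
  cardX : X.card = e
  cardY : Y.card * e = p - 1
  degX : ∀ χ ∈ X, charDegree (χ : G → ℂ) % p = 1 ∨ charDegree (χ : G → ℂ) % p = p - 1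
  degY : ∀ θ ∈ Y, (charDegree (θ : G → ℂ) : ℤ) ≡ -δ * e [ZMOD p]
  tX : ∀ χ ∈ X, tsum' P χ = ((((p : ℤ) - 1) * sgn p (charDegree (χ : G → ℂ)) : ℤ) : ℂ)
  tY : ∀ θ ∈ Y, tsum' P θ = ((δ * e : ℤ) : ℂ)
  eqY : ∀ θ ∈ Y, ∀ θ' ∈ Y, charDegree (θ : G → ℂ) = charDegree (θ' : G → ℂ)
  rel : ∀ θ ∈ Y, ∀ g : G, ¬ p ∣ orderOf g →
    ∑ χ ∈ X, (sgn p (charDegree (χ : G → ℂ)) : ℂ) * (χ : G → ℂ) g + (δ : ℂ) * (θ : G → ℂ) g = 0
  principal : principal G ∈ X ∨ Y = {principal G}
  nonempty : Y.Nonempty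
  valX : ∀ χ ∈ X, ∀ y ∈ P, y ≠ 1 → (χ : G → ℂ) y = (sgn p (charDegree (χ : G → ℂ)) : ℂ)

theorem exists_pfam (hp2 : 2 < p) : ∃ (X Y : Finset (IrrCharacter G)) (δ : ℤ), PFam p e P X Y δ ∧
    ∀ χ, χ ∈ principalBlock M G ↔ (χ ∈ X ∨ χ ∈ Y) := by
  classical
  obtain ⟨eb, X, Y, δ, sg, F⟩ := exists_families K hM (trivB V)
  obtain ⟨hXc, hYc, hXd, hYd, -, hagree, hprin⟩ := M12Uniq.families_facts hM hp2 K F
  have hB := principal_eq K hM F
  have hmem : ∀ χ, χ ∈ principalBlock M G ↔ (χ ∈ X ∨ χ ∈ Y) := fun χ => by rw [hB]; rfl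
  have hs : ∀ χ ∈ X, sgn p (charDegree (χ : G → ℂ)) = sg χ ∧
      (charDegree (χ : G → ℂ) % p = 1 ∨ charDegree (χ : G → ℂ) % p = p - 1) := fun χ hχ =>
    sgn_eq hp2 (F.signX χ hχ) (hXd χ hχ)
  refine ⟨X, Y, δ, ⟨F.sign, F.disj, hXc, hYc, fun χ hχ => (hs χ hχ).2, hYd, fun χ hχ => ?_, fun θ hθ => ?_,
    hagree, fun θ hθ g hg => ?_, hprin.imp And.left id, F.nonempty, fun χ hχ y hy hy1 => ?_⟩, hmem⟩
  · rw [tsum'_principal hM K ((hmem χ).2 (Or.inl hχ)), Families.sum_X K F hχ, (hs χ hχ).1]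
  · rw [tsum'_principal hM K ((hmem θ).2 (Or.inr hθ)), F.sumY θ hθ, eb_triv K F]
  · have h := Families.relation K F hθ hg
    rw [Finset.sum_congr rfl fun χ hχ => by rw [(hs χ hχ).1]]
    exact h
  · have hy' : (⟨y, hy⟩ : P) ≠ 1 := fun e => hy1 (congrArg Subtype.val e)
    rw [(hs χ hχ).1, ← Families.phi_X K F hχ hy', phi_principal K hM ((hmem χ).2 (Or.inl hχ)) hy']

theorem value_zero_of_dvd {χ : IrrCharacter G} (h : p ∣ charDegree (χ : G → ℂ)) {y : G} (hy : y ∈ P)
    (hy1 : y ≠ 1) : (χ : G → ℂ) y = 0 := by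
  have := section_zero_of_dvd K hM h (y := ⟨y, hy⟩) (fun e => hy1 (congrArg Subtype.val e)) (1 : V)
  rwa [OneMemClass.coe_one, mul_one] at this

/-- Outside the principal block the sum over the centralizer is that over `V`. -/
theorem sum_nonprincipal {χ : IrrCharacter G} (h : χ ∉ principalBlock M G) :
    ∃ m : ℕ, ∑ v : V, (χ : G → ℂ) v = (p : ℂ) * ((Nat.card V : ℂ) * m) := by
  classical
  obtain ⟨ψ, hψ, hsum⟩ := M12Uniq.exists_fixed_character (IsIrrCharacter.isCharacter χ.2) P V K.D.pv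
  obtain ⟨m, hm⟩ := M12Uniq.sum_eq_nat_mul hψ
  refine ⟨m, ?_⟩
  rw [← hm, ← K.hP, Finset.mul_sum, Finset.sum_congr rfl fun v _ => (hsum v).symm, Finset.sum_comm,
    ← Finset.add_sum_erase _ _ (Finset.mem_univ (1 : P))]
  have hrest : ∑ y ∈ (Finset.univ : Finset P).erase 1, ∑ v : V, (χ : G → ℂ) ((y : G) * (v : G)) = 0 := by
    refine Finset.sum_eq_zero fun y hy => ?_
    have h0 := phi_not_principal K hM h (Finset.ne_of_mem_erase hy)
    rw [phi, mul_eq_zero] at h0
    refine Eq.trans (Finset.sum_congr rfl fun v _ => ?_)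
      (h0.resolve_left (inv_ne_zero (Nat.cast_ne_zero.2 Nat.card_pos.ne')))
    show _ = _ * conj (1 : ℂ)
    rw [map_one, mul_one]
  rw [hrest, add_zero]
  simp only [OneMemClass.coe_one, one_mul]

end Families

/-- The relation summed over a subgroup of order prime to `p`. -/
theorem PFam.rel_tsum {p e : ℕ} {P : Subgroup G} [Fintype P] {X Y : Finset (IrrCharacter G)} {δ : ℤ}
    (F : PFam p e P X Y δ) (hp : p.Prime) (Q : Subgroup G) [Fintype Q] (hQ : ¬ p ∣ Nat.card Q)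
    {θ : IrrCharacter G} (hθ : θ ∈ Y) :
    ∑ χ ∈ X, (sgn p (charDegree (χ : G → ℂ)) : ℂ) * tsum' Q χ + (δ : ℂ) * tsum' Q θ = 0 := by
  have h1 : ¬ p ∣ orderOf (1 : G) := by simpa using hp.ne_one
  have hd := F.rel θ hθ 1 h1
  simp only [irr_one_eq_charDegree] at hd
  have hy : ∀ y : Q, ¬ p ∣ orderOf (y : G) := fun y h => hQ (h.trans (Subgroup.orderOf_dvd_natCard Q y.2))
  have hsum : ∑ y : Q, (∑ χ ∈ X, (sgn p (charDegree (χ : G → ℂ)) : ℂ) * (χ : G → ℂ) y +
      (δ : ℂ) * (θ : G → ℂ) y) = 0 := Finset.sum_eq_zero fun y _ => F.rel θ hθ _ (hy y)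
  rw [Finset.sum_add_distrib, Finset.sum_comm, ← Finset.mul_sum] at hsum
  simp only [← Finset.mul_sum] at hsum
  simp only [tsum', mul_sub, Finset.sum_sub_distrib]
  linear_combination hsum - hd

/-- Two subgroups of distinct prime orders: the sums are orthogonal to the degrees. -/
theorem sum_deg_tsum' (P : Subgroup G) [Fintype P] :
    ∑ χ : IrrCharacter G, (charDegree (χ : G → ℂ) : ℂ) * tsum' P χ = 0 := by
  classical
  simp only [tsum'_eq, Finset.mul_sum]
  rw [Finset.sum_comm]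
  refine Finset.sum_eq_zero fun y hy => ?_
  have hy1 : (y : G) ≠ 1 := fun h => Finset.ne_of_mem_erase hy (Subtype.ext h)
  have h := column_orth_of_not_isConj (g := (y : G)) (h := (1 : G)) fun hc => hy1 (isConj_one_left.1 hc)
  rw [← h]
  refine Finset.sum_congr rfl fun χ _ => ?_
  rw [irr_one_eq_charDegree, map_natCast, mul_comm]

theorem sum_tsum'_tsum' (P Q : Subgroup G) [Fintype P] [Fintype Q]
    (hcop : Nat.Coprime (Nat.card P) (Nat.card Q)) (hQ : ∀ χ : IrrCharacter G, ∃ z : ℤ, tsum' Q χ = z) :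
    ∑ χ : IrrCharacter G, tsum' P χ * tsum' Q χ = 0 := by
  classical
  have hconj : ∀ χ : IrrCharacter G, tsum' Q χ = conj (tsum' Q χ) := fun χ => by
    obtain ⟨z, hz⟩ := hQ χ
    rw [hz, map_intCast]
  rw [Finset.sum_congr rfl fun χ _ => by rw [hconj χ]]
  simp only [tsum'_eq, map_sum, Finset.sum_mul_sum]
  rw [Finset.sum_comm]
  refine Finset.sum_eq_zero fun y hy => ?_
  rw [Finset.sum_comm]
  refine Finset.sum_eq_zero fun z hz => column_orth_of_not_isConj fun hc => ?_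
  obtain ⟨g, hg⟩ := isConj_iff.1 hc
  have ho : orderOf (z : G) = orderOf (y : G) := by
    rw [← hg, ← MulAut.conj_apply, MulEquiv.orderOf_eq]
  have h1 : orderOf (y : G) = 1 := Nat.eq_one_of_dvd_coprimes hcop (Subgroup.orderOf_dvd_natCard P y.2)
    (ho ▸ Subgroup.orderOf_dvd_natCard Q z.2)
  exact Finset.ne_of_mem_erase hy (Subtype.ext (orderOf_eq_one_iff.1 h1))

end Cfsg.Agent.M23Uniq
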