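import Cfsg.Agent.Lib.M12Uniq.SameCounts
import Cfsg.Agent.Lib.Small.SylowToolkit
import Mathlib.GroupTheory.SpecificGroups.Cyclic

/-!
Local data in the groups of order 10200960 and general tools for counting elements of a given order.
-/

set_option linter.unusedSectionVars false
set_option linter.style.haveILetI false

namespace Cfsg.Agent.M23Uniq

open Cfsg

universe u

variable {G : Type u} [Group G] [Finite G]

/-- The number of elements of order `n`. -/
noncomputable def ocount (G : Type u) [Group G] (n : ℕ) : ℕ := Nat.card {g : G // orderOf g = n}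

/-- The local data at the primes 23, 11, 7 and 5 of a simple group of order 10200960. -/
structure Locals (G : Type u) [Group G] : Prop where
  card : Nat.card G = 10200960
  simple : IsSimpleGroup G
  c23 : ∀ x : G, orderOf x = 23 → Nat.card (Subgroup.centralizer ({x} : Set G)) = 23
  c11 : ∀ x : G, orderOf x = 11 → Nat.card (Subgroup.centralizer ({x} : Set G)) = 11
  c7 : ∀ x : G, orderOf x = 7 → Nat.card (Subgroup.centralizer ({x} : Set G)) = 14
  c5 : ∀ x : G, orderOf x = 5 → Nat.card (Subgroup.centralizer ({x} : Set G)) = 15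
  n23 : ∀ P : Sylow 23 G, Nat.card (Subgroup.normalizer ((P : Subgroup G) : Set G)) = 253
  n11 : ∀ P : Sylow 11 G, Nat.card (Subgroup.normalizer ((P : Subgroup G) : Set G)) = 55
  n7 : ∀ P : Sylow 7 G, Nat.card (Subgroup.normalizer ((P : Subgroup G) : Set G)) = 42
  n5 : ∀ P : Sylow 5 G, Nat.card (Subgroup.normalizer ((P : Subgroup G) : Set G)) = 60

theorem centralizer_zpowers (x : G) :
    Subgroup.centralizer ((Subgroup.zpowers x : Subgroup G) : Set G) = Subgroup.centralizer {x} := by
  refine le_antisymm (Subgroup.centralizer_le (Set.singleton_subset_iff.2 (Subgroup.mem_zpowers x))) ?_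
  intro g hg
  rw [Subgroup.mem_centralizer_iff]
  intro z hz
  obtain ⟨j, rfl⟩ := Subgroup.mem_zpowers_iff.1 hz
  exact (Commute.zpow_left (Subgroup.mem_centralizer_singleton_iff.1 hg : Commute g x).symm j).eq

/-- Conjugation by an element of prime order: only the elements commuting with it count. -/
theorem fixed_modEq {p : ℕ} [Fact p.Prime] {x : G} (hx : orderOf x = p) (q : G → Prop)
    (hq : ∀ a g, a ∈ Subgroup.zpowers x → q g → q (a * g * a⁻¹)) :
    Nat.card {g : G // q g} ≡ Nat.card {g : G // q g ∧ x * g = g * x} [MOD p] := by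
  letI act : MulAction (Subgroup.zpowers x) {g : G // q g} :=
    { smul := fun c g => ⟨(c : G) * g.1 * (c : G)⁻¹, hq _ _ c.2 g.2⟩
      one_smul := fun g => Subtype.ext (show (1 : G) * g.1 * (1 : G)⁻¹ = g.1 by group)
      mul_smul := fun a b g => Subtype.ext (show (a : G) * b * g.1 * ((a : G) * b)⁻¹ =
        (a : G) * ((b : G) * g.1 * (b : G)⁻¹) * (a : G)⁻¹ by group) }
  have h := (IsPGroup.of_card (n := 1) (by rw [Nat.card_zpowers, hx, pow_one]) :
    IsPGroup p (Subgroup.zpowers x)).card_modEq_card_fixedPoints {g : G // q g}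
  refine h.trans (congrArg (· % p) (Nat.card_congr
    { toFun := fun g => ⟨g.1.1, g.1.2, ?_⟩
      invFun := fun g => ⟨⟨g.1, g.2.1⟩, fun c => ?_⟩
      left_inv := fun g => rfl
      right_inv := fun g => rfl }))
  · exact mul_inv_eq_iff_eq_mul.1 (congrArg Subtype.val (g.2 ⟨x, Subgroup.mem_zpowers x⟩))
  · refine Subtype.ext (mul_inv_eq_iff_eq_mul.2 ?_)
    obtain ⟨j, hj⟩ := Subgroup.mem_zpowers_iff.1 c.2
    show (c : G) * g.1 = g.1 * (c : G)
    rw [← hj]
    exact (Commute.zpow_left (g.2.2 : Commute x g.1) j).eq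

theorem ocount_modEq {p : ℕ} [Fact p.Prime] {x : G} (hx : orderOf x = p) (n : ℕ) :
    ocount G n ≡ ocount (Subgroup.centralizer ({x} : Set G)) n [MOD p] := by
  refine (fixed_modEq hx (fun g : G => orderOf g = n) fun a g _ hg => ?_).trans (congrArg (· % p) (Nat.card_congr
    { toFun := fun g => ⟨⟨g.1, Subgroup.mem_centralizer_singleton_iff.2 g.2.2.symm⟩,
        by rw [← Subgroup.orderOf_coe]; exact g.2.1⟩
      invFun := fun g => ⟨g.1.1, by rw [Subgroup.orderOf_coe]; exact g.2,
        (Subgroup.mem_centralizer_singleton_iff.1 g.1.2).symm⟩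
      left_inv := fun g => rfl
      right_inv := fun g => rfl }))
  rw [← MulAut.conj_apply, MulEquiv.orderOf_eq]; exact hg

theorem ocount_cyclic [IsCyclic G] (n : ℕ) :
    ocount G n = if n ∣ Nat.card G then n.totient else 0 := by
  classical
  haveI : Fintype G := Fintype.ofFinite G
  split_ifs with h
  · rw [ocount, Nat.card_eq_fintype_card, Fintype.card_subtype]
    exact IsCyclic.card_orderOf_eq_totient (by rwa [← Nat.card_eq_fintype_card])
  · rw [ocount, Nat.card_eq_zero]
    exact Or.inl ⟨fun g => h (g.2 ▸ orderOf_dvd_natCard g.1)⟩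

theorem ocount_one : ocount G 1 = 1 :=
  Nat.card_eq_one_iff_unique.2 ⟨⟨fun a b => Subtype.ext
    ((orderOf_eq_one_iff.1 a.2).trans (orderOf_eq_one_iff.1 b.2).symm)⟩, ⟨⟨1, orderOf_one⟩⟩⟩

theorem two_dvd_ocount {n : ℕ} (hn : 2 < n) : 2 ∣ ocount G n := by
  classical
  haveI : Fintype G := Fintype.ofFinite G
  rw [ocount, Nat.card_eq_fintype_card, Fintype.card_subtype, ← ZMod.natCast_eq_zero_iff_even.trans even_iff_two_dvd,
    Finset.card_eq_sum_ones, Nat.cast_sum, Nat.cast_one]
  refine Finset.sum_involution (fun g _ => g⁻¹) (fun _ _ => CharTwo.add_self_eq_zero 1) ?_ ?_ ?_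
  · intro g hg _ e
    rw [Finset.mem_filter] at hg
    have h2 : g ^ 2 = 1 := by
      rw [pow_two]
      nth_rw 1 [← e]
      rw [inv_mul_cancel]
    have := Nat.le_of_dvd (by norm_num) (orderOf_dvd_of_pow_eq_one h2)
    omega
  · intro g hg
    simp only [Finset.mem_filter, Finset.mem_univ, true_and, orderOf_inv] at hg ⊢
    exact hg
  · intro g _
    exact inv_inv g

theorem ocount_two_odd (h : 2 ∣ Nat.card G) : ocount G 2 % 2 = 1 := by
  haveI : Fact (Nat.Prime 2) := ⟨Nat.prime_two⟩
  obtain ⟨x, hx⟩ := exists_prime_orderOf_dvd_card' (G := G) 2 h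
  have h1 : Nat.card {g : G // g ^ 2 = 1} ≡ Nat.card G [MOD 2] := by
    classical
    haveI : Fintype G := Fintype.ofFinite G
    have he : Fintype.card G = Fintype.card {g : G // g ^ 2 = 1} + Fintype.card {g : G // ¬ g ^ 2 = 1} := by
      rw [← Fintype.card_congr (Equiv.sumCompl fun g : G => g ^ 2 = 1), Fintype.card_sum]
    have h2 : 2 ∣ Fintype.card {g : G // ¬ g ^ 2 = 1} := by
      rw [Fintype.card_subtype, ← ZMod.natCast_eq_zero_iff_even.trans even_iff_two_dvd,
        Finset.card_eq_sum_ones, Nat.cast_sum, Nat.cast_one]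
      refine Finset.sum_involution (fun g _ => g⁻¹) (fun _ _ => CharTwo.add_self_eq_zero 1) ?_ ?_ ?_
      · intro g hg _ e
        simp only [Finset.mem_filter, Finset.mem_univ, true_and] at hg
        refine hg ?_
        rw [pow_two]
        nth_rw 1 [← e]
        rw [inv_mul_cancel]
      · intro g hg
        simp only [Finset.mem_filter, Finset.mem_univ, true_and, inv_pow, inv_eq_one] at hg ⊢
        exact hg
      · intro g _
        exact inv_inv g
    rw [Nat.card_eq_fintype_card, Nat.card_eq_fintype_card, Nat.ModEq]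
    omega
  have e : Nat.card {g : G // g ^ 2 = 1} = ocount G 1 + ocount G 2 := by
    classical
    haveI : Fintype G := Fintype.ofFinite G
    rw [ocount, ocount, Nat.card_eq_fintype_card, Nat.card_eq_fintype_card, Nat.card_eq_fintype_card,
      ← Fintype.card_subtype_or_disjoint _ _ (fun f hf1 hf2 g hg => by
        have a := hf1 g hg; have b := hf2 g hg; omega)]
    refine Fintype.card_congr (Equiv.subtypeEquivRight fun g => ?_)
    rw [← orderOf_dvd_iff_pow_eq_one, Nat.dvd_prime Nat.prime_two]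
  rw [e, ocount_one, Nat.ModEq] at h1
  omega

/-- An element acting on `⟨x⟩` as a power map of multiplicative order at least `e`. -/
theorem mul_le_normalizer {x w : G} {k e : ℕ} (hw : w * x * w⁻¹ = x ^ k)
    (hk : ∀ i < e, ∀ j < e, k ^ i % orderOf x = k ^ j % orderOf x → i = j) :
    Nat.card (Subgroup.centralizer ({x} : Set G)) * e ≤
      Nat.card (Subgroup.normalizer ((Subgroup.zpowers x : Subgroup G) : Set G)) := by
  set N := Subgroup.normalizer ((Subgroup.zpowers x : Subgroup G) : Set G)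
  have hmap : (Subgroup.zpowers x).map (MulAut.conj w).toMonoidHom = Subgroup.zpowers x := by
    refine Subgroup.eq_of_le_of_card_ge ?_ (by rw [Subgroup.card_map_of_injective (MulEquiv.injective _)])
    rw [MonoidHom.map_zpowers, Subgroup.zpowers_le]
    exact ⟨k, by simp [hw]⟩
  have hwN : w ∈ N := by
    rw [Subgroup.mem_normalizer_iff]
    intro g
    conv_rhs => rw [← hmap, Subgroup.mem_map_equiv]
    simp [MulAut.conj_symm_apply, mul_assoc]
  have hcN : ∀ c ∈ Subgroup.centralizer ({x} : Set G), c ∈ N := fun c hc =>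
    Small.centralizer_le_normalizer _ (centralizer_zpowers x ▸ hc)
  have hpow : ∀ i : ℕ, w ^ i * x * (w ^ i)⁻¹ = x ^ (k ^ i) := by
    intro i
    induction i with
    | zero => simp
    | succ i ih =>
      rw [pow_succ', show w * w ^ i * x * (w * w ^ i)⁻¹ = w * (w ^ i * x * (w ^ i)⁻¹) * w⁻¹ by group, ih,
        ← conj_pow, hw, ← pow_mul, pow_succ']
  have h := Nat.card_le_card_of_injective
    (fun ci : Subgroup.centralizer ({x} : Set G) × Fin e =>
      (⟨w ^ (ci.2 : ℕ) * ci.1.1, mul_mem (pow_mem hwN _) (hcN _ ci.1.2)⟩ : N)) ?_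
  · rwa [Nat.card_prod, Nat.card_fin] at h
  rintro ⟨⟨c, hc⟩, i⟩ ⟨⟨d, hd⟩, j⟩ heq
  have heq' : w ^ (i : ℕ) * c = w ^ (j : ℕ) * d := congrArg Subtype.val heq
  have hfix : ∀ a ∈ Subgroup.centralizer ({x} : Set G), a * x * a⁻¹ = x := fun a ha =>
    mul_inv_eq_iff_eq_mul.2 (Subgroup.mem_centralizer_singleton_iff.1 ha)
  have hx' : x ^ (k ^ (i : ℕ)) = x ^ (k ^ (j : ℕ)) := by
    calc x ^ (k ^ (i : ℕ)) = w ^ (i : ℕ) * (c * x * c⁻¹) * (w ^ (i : ℕ))⁻¹ := by rw [hfix c hc, hpow]
      _ = w ^ (i : ℕ) * c * x * (w ^ (i : ℕ) * c)⁻¹ := by group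
      _ = w ^ (j : ℕ) * (d * x * d⁻¹) * (w ^ (j : ℕ))⁻¹ := by rw [heq']; group
      _ = _ := by rw [hfix d hd, hpow]
  rw [pow_inj_mod] at hx'
  obtain rfl : i = j := Fin.ext (hk i i.2 j j.2 hx')
  obtain rfl : c = d := mul_left_cancel heq'
  rfl

theorem zpowers_eq_sylow {p m : ℕ} [Fact p.Prime] (hcard : Nat.card G = p ^ 1 * m) (hm : ¬ p ∣ m)
    {x : G} (hx : orderOf x = p) : ∃ P : Sylow p G, Subgroup.zpowers x = (P : Subgroup G) := by
  obtain ⟨P, hP⟩ := (IsPGroup.of_card (n := 1) (by rw [Nat.card_zpowers, hx, pow_one]) :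
    IsPGroup p (Subgroup.zpowers x)).exists_le_sylow
  refine ⟨P, Subgroup.eq_of_le_of_card_ge hP ?_⟩
  rw [Small.sylow_card hcard hm P, Nat.card_zpowers, hx, pow_one]

theorem index_dvd_normalizer {p m v : ℕ} [Fact p.Prime] (hcard : Nat.card G = p ^ 1 * m) (hm : ¬ p ∣ m)
    (hv : ∀ P : Sylow p G, Nat.card (Subgroup.normalizer ((P : Subgroup G) : Set G)) = v)
    (N : Subgroup G) [N.Normal] (hpN : p ∣ Nat.card N) : N.index ∣ v := by
  obtain ⟨Q⟩ : Nonempty (Sylow p N) := inferInstance
  set R := (Q : Subgroup N).map N.subtype with hR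
  have htop : Subgroup.normalizer (R : Set G) ⊔ N = ⊤ := Sylow.normalizer_sup_eq_top Q
  have hidx : N.index ∣ Nat.card (Subgroup.normalizer (R : Set G)) := by
    rw [← Subgroup.relIndex_top_right, ← htop, Subgroup.relIndex_sup_right]
    exact Subgroup.index_dvd_card _
  obtain ⟨P, hP⟩ := (Q.isPGroup'.map N.subtype : IsPGroup p R).exists_le_sylow
  have hne : Nat.card R ≠ 1 := fun e => Q.ne_bot_of_dvd_card hpN (Subgroup.card_eq_one.1 (by
    rwa [Nat.card_congr (Subgroup.equivMapOfInjective _ N.subtype N.subtype_injective).toEquiv]))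
  have hPc : Nat.card (P : Subgroup G) = p := by rw [Small.sylow_card hcard hm P, pow_one]
  have hd : Nat.card R ∣ p := hPc ▸ Subgroup.card_dvd_of_le hP
  have he : R = (P : Subgroup G) := Subgroup.eq_of_le_of_card_ge hP (by
    rw [hPc, ((Nat.dvd_prime Fact.out).1 hd).resolve_left hne])
  rwa [he, hv P] at hidx

end Cfsg.Agent.M23Uniq
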