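import Cfsg.Agent.Lib.M12Uniq.DegreeSearch

/-!
The finite search for the degrees in a simple group of order 10200960.
-/

set_option maxRecDepth 10000

namespace Cfsg.Agent.M23Uniq

open M12Uniq (multiCombos)

/-- A search through the multisets of a given size, carrying a state and leaving a branch when `pre` fails. -/
def forA {σ : Type} (step : σ → ℕ → ℕ → σ) (pre : σ → Bool) (leaf : σ → List ℕ → Bool) :
    List ℕ → ℕ → σ → List ℕ → Bool
  | [], k, s, acc => k != 0 || leaf s acc
  | a :: l, k, s, acc => Nat.rec (motive := fun _ => Bool) (forA step pre leaf l k s acc)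
      (fun j r => r && (!(pre (step s a (j + 1))) ||
        forA step pre leaf l (k - (j + 1)) (step s a (j + 1)) (acc ++ List.replicate (j + 1) a))) k

theorem forA_spec {σ : Type} {step : σ → ℕ → ℕ → σ} {pre : σ → Bool} {leaf : σ → List ℕ → Bool}
    (st : List ℕ → σ) (hst : ∀ (acc : List ℕ) (a j : ℕ), st (acc ++ List.replicate j a) = step (st acc) a j)
    (hpre : ∀ a b, pre (st (a ++ b)) = true → pre (st a) = true) :
    ∀ (l : List ℕ) (k : ℕ) (acc : List ℕ), forA step pre leaf l k (st acc) acc = true →
      ∀ t ∈ multiCombos l k, pre (st (acc ++ t)) = true → leaf (st (acc ++ t)) (acc ++ t) = true := by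
  intro l
  induction l with
  | nil =>
    intro k acc h t ht _
    by_cases hk : k = 0
    · subst hk
      simp only [multiCombos, if_pos, List.mem_singleton] at ht
      subst ht
      simpa [forA] using h
    · simp [multiCombos, hk] at ht
  | cons a l ih =>
    intro k acc h t ht hp
    simp only [multiCombos, List.mem_flatMap, List.mem_map, List.mem_range] at ht
    obtain ⟨j, hj, t', ht', rfl⟩ := ht
    rw [← List.append_assoc] at hp ⊢
    simp only [forA] at h
    set R : ℕ → Bool := Nat.rec (motive := fun _ => Bool) (forA step pre leaf l k (st acc) acc)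
      (fun j r => r && (!(pre (step (st acc) a (j + 1))) ||
        forA step pre leaf l (k - (j + 1)) (step (st acc) a (j + 1)) (acc ++ List.replicate (j + 1) a))) with hR
    have down : ∀ n, R n = true → ∀ i ≤ n, (i = 0 → forA step pre leaf l k (st acc) acc = true) ∧
        (0 < i → pre (step (st acc) a i) = true →
          forA step pre leaf l (k - i) (step (st acc) a i) (acc ++ List.replicate i a) = true) := by
      intro n
      induction n with
      | zero =>
        intro hn i hi
        obtain rfl : i = 0 := by omega
        exact ⟨fun _ => hn, fun h => absurd h (lt_irrefl 0)⟩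
      | succ n ihn =>
        intro hn i hi
        simp only [hR, Bool.and_eq_true, Bool.or_eq_true, Bool.not_eq_true'] at hn
        rcases Nat.lt_or_eq_of_le hi with hlt | rfl
        · exact ihn hn.1 i (by omega)
        · refine ⟨fun h => absurd h (Nat.succ_ne_zero n), fun _ hp' => ?_⟩
          rcases hn.2 with e | e
          · rw [hp'] at e; cases e
          · exact e
    have hd := down k h j (by omega)
    rcases Nat.eq_zero_or_pos j with rfl | hj0
    · have h' := hd.1 rfl
      simp only [List.replicate_zero, List.append_nil] at hp ⊢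
      exact ih k acc h' t' (by simpa using ht') hp
    · have h' := hd.2 hj0 (hst acc a j ▸ hpre _ _ hp)
      rw [← hst] at h'
      exact ih _ _ h' t' ht' hp

/-- Degrees of the first family at 23, apart from one. -/
def xs23 : List ℕ := [160, 896, 45, 252, 1540, 990, 528, 22, 231]
/-- Degrees of the second family at 23. -/
def ys23 : List ℕ := [11, 12, 126, 264, 495, 770, 1760, 1920, 2772]
/-- Multiples of 23 in the first family at 11. -/
def xs11 : List ℕ := [2760, 1288, 1035, 736, 483, 276, 230, 23]
/-- Multiples of 23 in the second family at 11. -/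
def ys11 : List ℕ := [115, 138, 368, 644, 1380, 1656, 2415, 2898]
/-- Multiples of 253. -/
def zs : List ℕ := [253, 506, 759, 1012, 1265, 1518, 1771, 2024, 2277, 2530, 3036]

/-- The sum over a group of order 23 attached to a degree. -/
def t23 (d : ℕ) : ℤ :=
  if d % 23 = 1 then 22 else if d % 23 = 22 then -22 else if d % 23 = 11 then -11 else if d % 23 = 12 then 11 else 0

/-- The sum over a group of order 11 attached to a degree. -/
def t11 (d : ℕ) : ℤ :=
  if d % 11 = 1 then 10 else if d % 11 = 10 then -10 else if d % 11 = 5 then -5 else if d % 11 = 6 then 5 else 0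

/-- Residue `1` or `-1`. -/
def isX (p d : ℕ) : Bool := Nat.beq (d % p) 1 || Nat.beq (d % p) (p - 1)

/-- The residues of the second family at 11. -/
def isY (d : ℕ) : Bool := Nat.beq (d % 11) 5 || Nat.beq (d % 11) 6

/-- Signs. -/
def sg (p d : ℕ) : ℤ := if d % p = 1 then 1 else -1

/-- The sign of the second family at 7. -/
def sg7 (y : ℕ) : ℤ := if y % 7 = 3 then -1 else 1

/-- The term of the bound at `p`. -/
def res (p d : ℕ) : ℕ := (d % p) * (p - d % p)

/-- The weight of a list. -/
def wsum (g : ℕ → ℕ) (l : List ℕ) : ℕ := (l.map g).sum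

/-- A signed sum. -/
def isum (g : ℕ → ℤ) (l : List ℕ) : ℤ := (l.map g).sum

theorem wsum_replicate (g : ℕ → ℕ) (acc : List ℕ) (a j : ℕ) :
    wsum g (acc ++ List.replicate j a) = wsum g acc + j * g a := by
  simp [wsum, List.map_replicate, List.sum_replicate]

theorem wsum_prefix (g : ℕ → ℕ) (a b : List ℕ) : wsum g a ≤ wsum g (a ++ b) := by
  simp [wsum]

/-- The square of a degree. -/
def sq (d : ℕ) : ℕ := d * d
/-- The indicator of the first family at 11. -/
def oneX (d : ℕ) : ℕ := if isX 11 d then 1 else 0
/-- The indicator of the second family at 11. -/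
def oneY (d : ℕ) : ℕ := if isY d then 1 else 0
/-- The positive part of a weighted sum. -/
def up (t : ℕ → ℤ) (d : ℕ) : ℕ := (t d).toNat * d
/-- The negative part of a weighted sum. -/
def down (t : ℕ → ℤ) (d : ℕ) : ℕ := (-t d).toNat * d

/-- The running sums. -/
structure St where
  sq : ℕ
  r7 : ℕ
  r5 : ℕ
  nx : ℕ
  ny : ℕ
  a23 : ℕ
  b23 : ℕ
  a11 : ℕ
  b11 : ℕ

/-- One step. -/
def St.step (s : St) (d j : ℕ) : St :=
  ⟨s.sq + j * M23Uniq.sq d, s.r7 + j * res 7 d, s.r5 + j * res 5 d, s.nx + j * oneX d, s.ny + j * oneY d,
    s.a23 + j * up t23 d, s.b23 + j * down t23 d, s.a11 + j * up t11 d, s.b11 + j * down t11 d⟩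

/-- The running sums of a list. -/
def St.of (l : List ℕ) : St :=
  ⟨wsum M23Uniq.sq l, wsum (res 7) l, wsum (res 5) l, wsum oneX l, wsum oneY l, wsum (up t23) l,
    wsum (down t23) l, wsum (up t11) l, wsum (down t11) l⟩

theorem St.of_step (acc : List ℕ) (a j : ℕ) : St.of (acc ++ List.replicate j a) = (St.of acc).step a j := by
  simp [St.of, St.step, wsum_replicate]

/-- The bounds. -/
def St.pre (s : St) : Bool :=
  Nat.ble s.sq 10200960 && Nat.ble s.r7 84 && Nat.ble s.r5 60 && Nat.ble s.nx 5 && Nat.ble s.ny 2

theorem St.pre_prefix (a b : List ℕ) (h : (St.of (a ++ b)).pre = true) : (St.of a).pre = true := by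
  simp only [St.pre, St.of, Bool.and_eq_true, Nat.ble_eq] at h ⊢
  have := wsum_prefix M23Uniq.sq a b; have := wsum_prefix (res 7) a b; have := wsum_prefix (res 5) a b
  have := wsum_prefix oneX a b; have := wsum_prefix oneY a b
  omega

/-- The degrees of the members not divisible by 253. -/
def target : List ℕ := [1, 22, 45, 45, 230, 231, 231, 231, 770, 770, 896, 896, 990, 990, 1035]

/-- Multiplicities available beside the principal character. -/
def fits (L m : List ℕ) : Bool := m.all fun d => zs.contains d || Nat.ble (m.count d) ((L.erase 1).count d)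

/-- A weight on the multiples of 253. -/
def zw (g : ℕ → ℕ) (d : ℕ) : ℕ := if zs.contains d then g d else 0

/-- The state of the third stage. -/
def pre3 (L m : List ℕ) : Bool :=
  fits L m && Nat.ble (wsum sq L + wsum (zw sq) m) 10200960

theorem fits_prefix (L a b : List ℕ) (h : fits L (a ++ b) = true) : fits L a = true := by
  simp only [fits, List.all_eq_true, Bool.or_eq_true, Nat.ble_eq] at h ⊢
  intro d hd
  rcases h d (List.mem_append_left b hd) with e | e
  · exact Or.inl e
  · exact Or.inr (le_trans (by simp [List.count_append]) e)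

theorem pre3_prefix (L a b : List ℕ) (h : pre3 L (a ++ b) = true) : pre3 L a = true := by
  simp only [pre3, Bool.and_eq_true, Nat.ble_eq] at h ⊢
  exact ⟨fits_prefix L a b h.1, le_trans (Nat.add_le_add_left (wsum_prefix _ a b) _) h.2⟩

/-- The weight of the forced multiples of 253. -/
def extra (g : ℕ → ℕ) (a b : List ℕ) : ℕ := (zs.map fun d => max (a.count d) (b.count d) * g d).sum

/-- The bounds with the forced multiples of 253. -/
def within (L a b : List ℕ) : Bool :=
  Nat.ble (wsum sq L + extra sq a b) 10200960 && Nat.ble (wsum (res 7) L + extra (res 7) a b) 84 &&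
    Nat.ble (wsum (res 5) L + extra (res 5) a b) 60

/-- The relation of the family at 5. -/
def ok5 (m : List ℕ) : Bool :=
  decide (1 + isum (fun d => sg 5 d * (d : ℤ)) m = 0) && decide (22 + isum (fun d => sg 5 d * t23 d) m = 0) &&
    decide (10 + isum (fun d => sg 5 d * t11 d) m = 0)

/-- The relation of the family at 7. -/
def ok7 (m : List ℕ) (y : ℕ) : Bool :=
  decide (1 + isum (fun d => sg 7 d * (d : ℤ)) m + sg7 y * (y : ℤ) = 0) &&
    decide (22 + isum (fun d => sg 7 d * t23 d) m + sg7 y * t23 y = 0) &&
    decide (10 + isum (fun d => sg 7 d * t11 d) m + sg7 y * t11 y = 0)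

/-- The conclusion. -/
def goal (L a : List ℕ) : Bool :=
  (target.all fun d => Nat.beq (L.count d) (target.count d)) && Nat.beq L.length target.length &&
    Nat.beq (a.count 2024) 1

/-- The members available to a family. -/
def avail (q : ℕ → Bool) (L : List ℕ) : List ℕ := ((L.erase 1).dedup ++ zs).filter q

/-- The residues of the second family at 7. -/
def isY7 (d : ℕ) : Bool := Nat.beq (d % 7) 3 || Nat.beq (d % 7) 4

/-- The family at 7. -/
def check4 (L a : List ℕ) : Bool :=
  forA (fun s d j => s ++ List.replicate j d) (pre3 L)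
    (fun _ b => (avail isY7 L).all fun y =>
      !(ok7 b y && fits L (b ++ [y, y]) && within L a (b ++ [y, y])) || goal L a)
    (avail (isX 7) L) 2 [] []

/-- The family at 5. -/
def check3 (L : List ℕ) : Bool :=
  forA (fun s d j => s ++ List.replicate j d) (pre3 L)
    (fun _ a => !(ok5 a) || check4 L a) (avail (isX 5) L) 4 [] []

/-- The second family at 11 among multiples of 23. -/
def yOpts (L : List ℕ) : List (List ℕ) :=
  if Nat.beq (wsum oneY L) 0 then ys11.map fun q => [q, q] else [[]]

/-- The second stage. -/
def check2 (L : List ℕ) : Bool :=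
  (yOpts L).all fun b => forA St.step St.pre
    (fun s l => !(Nat.beq s.a11 s.b11 && decide (isum (fun d => t23 d * t11 d) l = 0)) || check3 l)
    xs11 (5 - wsum oneX L) (St.of (L ++ b)) (L ++ b)

/-- At most one degree in the second family at 11, twice or never. -/
def yCond (L : List ℕ) : Bool :=
  Nat.beq (wsum oneY L) 0 || (Nat.beq (wsum oneY L) 2 && Nat.beq (L.filter isY).dedup.length 1)

/-- The first stage. -/
def check1 : Bool :=
  forA St.step St.pre
    (fun s m => ys23.all fun y =>
      !(Nat.beq (s.a23 + 2 * up t23 y) (s.b23 + 2 * down t23 y) && (St.step s y 2).pre) ||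
        (!(yCond (m ++ [y, y])) || check2 (m ++ [y, y])))
    xs23 10 (St.of [1]) [1]

theorem check1_eq : check1 = true := by decide +kernel

end Cfsg.Agent.M23Uniq
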