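import Cfsg.Agent.Lib.M23Uniq.DegreeCheck

/-!
The degrees in a simple group of order 10200960 from their arithmetical properties.
-/

set_option maxRecDepth 10000

namespace Cfsg.Agent.M23Uniq

open M12Uniq (multiCombos exists_multiCombo)

/-- The residues of the second family at 23. -/
def isY23 (d : ℕ) : Bool := Nat.beq (d % 23) 11 || Nat.beq (d % 23) 12

set_option synthInstance.maxSize 2000 in
theorem cls23 : ∀ d < 3194, 10200960 % d = 0 →
    (d % 11 = 0 ∨ isX 11 d = true ∨ isY d = true) →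
    (isX 23 d = true → d ≠ 1 → d ∈ xs23) ∧ (isY23 d = true → d ∈ ys23) ∧
      (23 ∣ d → isX 11 d = true → d ∈ xs11) ∧ (23 ∣ d → isY d = true → d ∈ ys11) ∧
      (23 ∣ d → 11 ∣ d → d ∈ zs) := by
  decide +kernel

/-- The arithmetical properties of the degrees. -/
structure DegProps (Mu : Multiset ℕ) : Prop where
  dvd : ∀ d ∈ Mu, d ∣ 10200960 ∧ d < 3194
  one : Mu.count 1 = 1
  hsq : (Mu.map sq).sum = 10200960
  h7 : (Mu.map (res 7)).sum ≤ 84
  h5 : (Mu.map (res 5)).sum ≤ 60
  cls23 : ∀ d ∈ Mu, 23 ∣ d ∨ isX 23 d = true ∨ isY23 d = true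
  cardX23 : (Mu.filter fun d => isX 23 d = true).card = 11
  cardY23 : ∃ y, (Mu.filter fun d => isY23 d = true) = Multiset.replicate 2 y
  rel23 : (Mu.map fun d => t23 d * (d : ℤ)).sum = 0
  cls11 : ∀ d ∈ Mu, d % 11 = 0 ∨ isX 11 d = true ∨ isY d = true
  cardX11 : (Mu.filter fun d => isX 11 d = true).card = 5
  cardY11 : ∃ y, (Mu.filter fun d => isY d = true) = Multiset.replicate 2 y
  rel11 : (Mu.map fun d => t11 d * (d : ℤ)).sum = 0
  orth : (Mu.map fun d => t23 d * t11 d).sum = 0
  fam5 : ∃ a : List ℕ, a.length = 4 ∧ (↑a : Multiset ℕ) ≤ Mu.erase 1 ∧ (∀ d ∈ a, isX 5 d = true) ∧ ok5 a = true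
  fam7 : ∃ (b : List ℕ) (y : ℕ), b.length = 2 ∧ (↑(b ++ [y, y]) : Multiset ℕ) ≤ Mu.erase 1 ∧
    (∀ d ∈ b, isX 7 d = true) ∧ isY7 y = true ∧ ok7 b y = true

theorem wsum_coe (g : ℕ → ℕ) (l : List ℕ) : wsum g l = ((↑l : Multiset ℕ).map g).sum := by
  simp [wsum]

theorem isum_coe (g : ℕ → ℤ) (l : List ℕ) : isum g l = ((↑l : Multiset ℕ).map g).sum := by
  simp [isum]

theorem ok5_perm {a a' : List ℕ} (h : a.Perm a') : ok5 a = ok5 a' := by
  have e : ∀ g : ℕ → ℤ, isum g a = isum g a' := fun g => (h.map g).sum_eq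
  unfold ok5
  rw [e, e, e]

theorem ok7_perm {a a' : List ℕ} (h : a.Perm a') (y : ℕ) : ok7 a y = ok7 a' y := by
  have e : ∀ g : ℕ → ℤ, isum g a = isum g a' := fun g => (h.map g).sum_eq
  unfold ok7
  rw [e, e, e]

theorem sum_le_of_le {s t : Multiset ℕ} (g : ℕ → ℕ) (h : s ≤ t) : (s.map g).sum ≤ (t.map g).sum := by
  obtain ⟨u, rfl⟩ := Multiset.le_iff_exists_add.1 h
  simp

theorem zs_weight (g : ℕ → ℕ) (s : Multiset ℕ) (hs : ∀ d ∈ s, d ∈ zs) :
    (s.map g).sum = (zs.map fun d => s.count d * g d).sum := by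
  classical
  rw [← List.sum_toFinset _ (show zs.Nodup by decide), Finset.sum_multiset_map_count,
    Finset.sum_subset (fun d hd => List.mem_toFinset.2 (hs d (Multiset.mem_toFinset.1 hd)))]
  · simp
  · intro d _ hd
    rw [Multiset.mem_toFinset] at hd
    simp [Multiset.count_eq_zero.2 hd]

theorem filter_split (s : Multiset ℕ) (p q : ℕ → Prop) [DecidablePred p] [DecidablePred q]
    (hor : ∀ d ∈ s, p d → q d) : (s.filter q) = s.filter p + (s.filter fun d => ¬ p d ∧ q d) := by
  conv_lhs => rw [← Multiset.filter_add_not p (s.filter q)]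
  rw [Multiset.filter_filter, Multiset.filter_filter]
  congr 1
  exact Multiset.filter_congr fun d hd => ⟨fun h => h.1, fun h => ⟨h, hor d hd h⟩⟩

theorem oneX_sum (s : Multiset ℕ) : (s.map oneX).sum = (s.filter fun d => isX 11 d = true).card := by
  induction s using Multiset.induction_on with
  | empty => simp
  | cons a s ih => by_cases h : isX 11 a = true <;> simp [oneX, h] <;> omega

theorem oneY_sum (s : Multiset ℕ) : (s.map oneY).sum = (s.filter fun d => isY d = true).card := by
  induction s using Multiset.induction_on with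
  | empty => simp
  | cons a s ih => by_cases h : isY a = true <;> simp [oneY, h] <;> omega

theorem balance (t : ℕ → ℤ) (l : List ℕ) (h : ((↑l : Multiset ℕ).map fun d => t d * (d : ℤ)).sum = 0) :
    wsum (up t) l = wsum (down t) l := by
  have hl : ∀ l : List ℕ, ((wsum (up t) l : ℕ) : ℤ) - (wsum (down t) l : ℕ) = (l.map fun d => t d * (d : ℤ)).sum := by
    intro l
    induction l with
    | nil => simp [wsum]
    | cons a l ih =>
      simp only [wsum, List.map_cons, List.sum_cons, Nat.cast_add, up, down, Nat.cast_mul] at ih ⊢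
      have := Int.toNat_sub_toNat_neg (t a)
      have e : ((t a).toNat : ℤ) * a - ((-t a).toNat : ℤ) * a = t a * a := by rw [← sub_mul, this]
      linarith
  have := hl l
  rw [Multiset.map_coe, Multiset.sum_coe] at h
  omega

variable {Mu : Multiset ℕ}

theorem DegProps.mem_zs (D : DegProps Mu) {d : ℕ} (hd : d ∈ Mu) (h : 253 ∣ d) : d ∈ zs := by
  obtain ⟨h1, h2⟩ := D.dvd d hd
  exact (M23Uniq.cls23 d h2 (Nat.mod_eq_zero_of_dvd h1) (D.cls11 d hd)).2.2.2.2
    (Dvd.dvd.trans (by norm_num) h) (Dvd.dvd.trans (by norm_num) h)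

theorem zs_dvd : ∀ d ∈ zs, 253 ∣ d := by decide

theorem DegProps.count_L (D : DegProps Mu) {L : List ℕ} (hL : (↑L : Multiset ℕ) = Mu.filter fun d => ¬ 253 ∣ d)
    {m : List ℕ} (hm : (↑m : Multiset ℕ) ≤ Mu.erase 1) : fits L m = true := by
  simp only [fits, List.all_eq_true, Bool.or_eq_true, List.contains_iff_mem, Nat.ble_eq]
  intro d hd
  by_cases hz : d ∈ zs
  · exact Or.inl hz
  refine Or.inr ?_
  have hdMu : d ∈ Mu := Multiset.mem_of_mem_erase (Multiset.mem_of_le hm (Multiset.mem_coe.2 hd))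
  have h253 : ¬ 253 ∣ d := fun h => hz (D.mem_zs hdMu h)
  have h1 := Multiset.count_le_of_le d hm
  rw [Multiset.coe_count] at h1
  refine h1.trans (le_of_eq ?_)
  rw [← Multiset.coe_count, ← Multiset.coe_erase, hL]
  by_cases hd1 : d = 1
  · subst hd1
    rw [Multiset.count_erase_self, Multiset.count_erase_self,
      Multiset.count_filter_of_pos (p := fun d => ¬ 253 ∣ d) h253]
  · rw [Multiset.count_erase_of_ne hd1, Multiset.count_erase_of_ne hd1,
      Multiset.count_filter_of_pos (p := fun d => ¬ 253 ∣ d) h253]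

theorem DegProps.zw_le (D : DegProps Mu) (g : ℕ → ℕ) {m : List ℕ} (hm : (↑m : Multiset ℕ) ≤ Mu.erase 1) :
    wsum (zw g) m ≤ ((Mu.filter fun d => 253 ∣ d).map g).sum := by
  have e : wsum (zw g) m = (((↑m : Multiset ℕ).filter fun d => 253 ∣ d).map g).sum := by
    rw [wsum_coe]
    have hmem : ∀ d ∈ (↑m : Multiset ℕ), zw g d = if 253 ∣ d then g d else 0 := by
      intro d hd
      have hdMu : d ∈ Mu := Multiset.mem_of_mem_erase (Multiset.mem_of_le hm hd)
      by_cases h : 253 ∣ d
      · simp [zw, h, List.contains_iff_mem, D.mem_zs hdMu h]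
      · have hz : d ∉ zs := fun hz => h (zs_dvd d hz)
        simp [zw, h, List.contains_iff_mem, hz]
    rw [Multiset.map_congr rfl hmem]
    generalize (↑m : Multiset ℕ) = s
    induction s using Multiset.induction_on with
    | empty => simp
    | cons a s ih => by_cases h : 253 ∣ a <;> simp [h, ih]
  rw [e]
  exact sum_le_of_le g (Multiset.filter_le_filter _ (hm.trans (Multiset.erase_le 1 Mu)))

set_option maxHeartbeats 1000000 in
/-- The degrees not divisible by 253. -/
theorem DegProps.small (D : DegProps Mu) :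
    (Mu.filter fun d => ¬ 253 ∣ d) = ↑target ∧ 2024 ∈ Mu := by
  classical
  have hcls : ∀ d ∈ Mu, (isX 23 d = true → d ≠ 1 → d ∈ xs23) ∧ (isY23 d = true → d ∈ ys23) ∧
      (23 ∣ d → isX 11 d = true → d ∈ xs11) ∧ (23 ∣ d → isY d = true → d ∈ ys11) ∧ (23 ∣ d → 11 ∣ d → d ∈ zs) :=
    fun d hd => M23Uniq.cls23 d (D.dvd d hd).2 (Nat.mod_eq_zero_of_dvd (D.dvd d hd).1) (D.cls11 d hd)
  have hexcl : ∀ d : ℕ, (isX 23 d = true → ¬ 23 ∣ d ∧ isY23 d = false) ∧ (isY23 d = true → ¬ 23 ∣ d) ∧
      (isX 11 d = true → ¬ 11 ∣ d ∧ isY d = false) ∧ (isY d = true → ¬ 11 ∣ d) := by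
    intro d
    simp only [isX, isY, isY23, Bool.or_eq_true, Bool.or_eq_false_iff, Nat.beq_eq, ← Bool.not_eq_true,
      Nat.dvd_iff_mod_eq_zero]
    omega
  -- the members at 23
  obtain ⟨y, hy⟩ := D.cardY23
  have hyMu : y ∈ Mu ∧ isY23 y = true := by
    have : y ∈ Mu.filter fun d => isY23 d = true := by rw [hy]; simp
    exact Multiset.mem_filter.1 this
  have h1X : 1 ∈ Mu.filter fun d => isX 23 d = true :=
    Multiset.mem_filter.2 ⟨Multiset.count_pos.1 (by rw [D.one]; norm_num), rfl⟩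
  obtain ⟨t, ht, hts⟩ := exists_multiCombo xs23 ((Mu.filter fun d => isX 23 d = true).erase 1) fun d hd => by
    have hne : d ≠ 1 := by
      rintro rfl
      have hc : 0 < ((Mu.filter fun d => isX 23 d = true).erase 1).count 1 := Multiset.count_pos.2 hd
      rw [Multiset.count_erase_self, Multiset.count_filter_of_pos (by rfl), D.one] at hc
      omega
    obtain ⟨h1, h2⟩ := Multiset.mem_filter.1 (Multiset.mem_of_mem_erase hd)
    exact (hcls d h1).1 h2 hne
  rw [Multiset.card_erase_of_mem h1X, D.cardX23] at ht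
  set m : List ℕ := [1] ++ t with hm
  have hmX : (↑m : Multiset ℕ) = Mu.filter fun d => isX 23 d = true := by
    rw [hm, List.singleton_append, ← Multiset.cons_coe, hts, Multiset.cons_erase h1X]
  set L1 : List ℕ := m ++ [y, y] with hL1
  have hL1Mu : (↑L1 : Multiset ℕ) = Mu.filter fun d => ¬ 23 ∣ d := by
    rw [hL1, ← Multiset.coe_add, hmX, show ((↑[y, y] : Multiset ℕ)) = Multiset.replicate 2 y from rfl, ← hy]
    rw [filter_split Mu (fun d => isX 23 d = true) (fun d => ¬ 23 ∣ d) fun d _ h => ((hexcl d).1 h).1]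
    congr 1
    refine Multiset.filter_congr fun d hd => ⟨fun h => ⟨?_, (hexcl d).2.1 h⟩, fun h => ?_⟩
    · intro hX
      rw [((hexcl d).1 hX).2] at h
      cases h
    · exact ((D.cls23 d hd).resolve_left h.2).resolve_left h.1
  -- weights of parts
  have hle : ∀ (g : ℕ → ℕ) {l : List ℕ}, (↑l : Multiset ℕ) ≤ Mu → wsum g l ≤ (Mu.map g).sum :=
    fun g l h => by rw [wsum_coe]; exact sum_le_of_le g h
  have hpre : ∀ {l : List ℕ}, (↑l : Multiset ℕ) ≤ Mu → (St.of l).pre = true := by
    intro l h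
    obtain ⟨q, hq⟩ := D.cardY11
    have a1 := hle sq h; have a2 := hle (res 7) h; have a3 := hle (res 5) h
    have a4 := hle oneX h; have a5 := hle oneY h
    rw [oneX_sum, D.cardX11] at a4
    rw [oneY_sum, hq, Multiset.card_replicate] at a5
    have := D.hsq; have := D.h7; have := D.h5
    simp only [St.pre, St.of, Bool.and_eq_true, Nat.ble_eq]
    omega
  have hL1le : (↑L1 : Multiset ℕ) ≤ Mu := hL1Mu ▸ Multiset.filter_le _ _
  have hmle : (↑m : Multiset ℕ) ≤ Mu := hmX ▸ Multiset.filter_le _ _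
  have h23zero : ∀ d ∈ Mu, 23 ∣ d → t23 d = 0 := fun d _ h => by
    have h0 := Nat.mod_eq_zero_of_dvd h
    simp [t23, h0]
  have hrel1 : ((↑L1 : Multiset ℕ).map fun d => t23 d * (d : ℤ)).sum = 0 := by
    have hsplit := congrArg (fun s => (Multiset.map (fun d => t23 d * (d : ℤ)) s).sum)
      (Multiset.filter_add_not (fun d => ¬ 23 ∣ d) Mu)
    simp only [Multiset.map_add, Multiset.sum_add] at hsplit
    rw [D.rel23, Multiset.sum_eq_zero (s := Multiset.map _ (Multiset.filter (fun a => ¬¬23 ∣ a) Mu)), add_zero] at hsplit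
    · rw [hL1Mu]; exact hsplit
    · intro z hz
      obtain ⟨d, hd, rfl⟩ := Multiset.mem_map.1 hz
      obtain ⟨h1, h2⟩ := Multiset.mem_filter.1 hd
      rw [h23zero d h1 (not_not.1 h2), zero_mul]
  -- first stage
  have c1 := check1_eq
  rw [check1] at c1
  have s1 := forA_spec St.of St.of_step St.pre_prefix xs23 10 [1] c1 t ht (hpre hmle)
  rw [List.all_eq_true] at s1
  have s1 := s1 y ((hcls y hyMu.1).2.1 hyMu.2)
  have hpair : (St.of m).step y 2 = St.of L1 := by
    rw [← St.of_step]; rfl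
  have hbal : Nat.beq ((St.of m).a23 + 2 * up t23 y) ((St.of m).b23 + 2 * down t23 y) = true := by
    rw [Nat.beq_eq]
    have h := balance t23 L1 hrel1
    rw [hL1, show [y, y] = List.replicate 2 y from rfl, wsum_replicate, wsum_replicate] at h
    exact h
  -- the second family at 11
  obtain ⟨q, hq⟩ := D.cardY11
  have hqMu : q ∈ Mu ∧ isY q = true := by
    have : q ∈ Mu.filter fun d => isY d = true := by rw [hq]; simp
    exact Multiset.mem_filter.1 this
  have hYin : (↑L1 : Multiset ℕ).filter (fun d => isY d = true) =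
      if 23 ∣ q then 0 else Multiset.replicate 2 q := by
    rw [hL1Mu, Multiset.filter_comm, hq]
    split_ifs with h
    · exact Multiset.filter_eq_nil.2 fun d hd => by rw [Multiset.eq_of_mem_replicate hd]; exact not_not.2 h
    · exact Multiset.filter_eq_self.2 fun d hd => by rw [Multiset.eq_of_mem_replicate hd]; exact h
  have hnY : wsum oneY L1 = if 23 ∣ q then 0 else 2 := by
    rw [wsum_coe, oneY_sum, hYin]
    split_ifs <;> simp
  have hycond : yCond L1 = true := by
    rw [yCond, hnY]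
    by_cases h : 23 ∣ q
    · simp [h]
    · have hf : (↑(L1.filter isY) : Multiset ℕ) = Multiset.replicate 2 q := by
        rw [if_neg h] at hYin
        rw [← hYin, Multiset.filter_coe]
        simp
      rw [← Multiset.coe_replicate, Multiset.coe_eq_coe, List.perm_replicate] at hf
      rw [if_neg h, hf]
      rw [show List.replicate 2 q = [q, q] from rfl, List.dedup_cons_of_mem (List.mem_singleton_self q)]
      simp
  simp only [Bool.or_eq_true, Bool.not_eq_true', ← Bool.not_eq_true, Bool.and_eq_true] at s1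
  rcases s1 with s1 | s1 | s1
  · exact absurd ⟨hbal, hpair ▸ hpre hL1le⟩ s1
  · exact absurd hycond s1
  -- second stage
  set b : List ℕ := if 23 ∣ q then [q, q] else [] with hb
  have hbMu : (↑b : Multiset ℕ) = Mu.filter fun d => 23 ∣ d ∧ isY d = true := by
    rw [← Multiset.filter_filter, hq, hb]
    split_ifs with h
    · refine (Multiset.filter_eq_self.2 ?_).symm
      intro d hd
      obtain rfl : d = q := by simpa using hd
      exact h
    · refine (Multiset.filter_eq_nil.2 ?_).symm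
      intro d hd
      obtain rfl : d = q := by simpa using hd
      exact h
  have hbopt : b ∈ yOpts L1 := by
    rw [yOpts, hnY, hb]
    split_ifs with h h' h' <;> simp_all
  obtain ⟨a, ha, has⟩ := exists_multiCombo xs11 (Mu.filter fun d => 23 ∣ d ∧ isX 11 d = true) fun d hd => by
    obtain ⟨h1, h2, h3⟩ := Multiset.mem_filter.1 hd
    exact (hcls d h1).2.2.1 h2 h3
  have hnX : (Mu.filter fun d => 23 ∣ d ∧ isX 11 d = true).card = 5 - wsum oneX L1 := by
    have h := congrArg Multiset.card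
      (Multiset.filter_add_not (fun d => 23 ∣ d) (Mu.filter fun d => isX 11 d = true))
    rw [Multiset.card_add, D.cardX11, Multiset.filter_filter] at h
    rw [wsum_coe, oneX_sum, hL1Mu, Multiset.filter_filter]
    rw [Multiset.filter_filter] at h
    have e : Multiset.filter (fun a => isX 11 a = true ∧ ¬23 ∣ a) Mu =
        Multiset.filter (fun a => ¬23 ∣ a ∧ isX 11 a = true) Mu := Multiset.filter_congr fun _ _ => And.comm
    rw [e]
    omega
  rw [hnX] at ha
  set L : List ℕ := L1 ++ b ++ a with hLdef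
  have hL : (↑L : Multiset ℕ) = Mu.filter fun d => ¬ 253 ∣ d := by
    rw [hLdef, ← Multiset.coe_add, ← Multiset.coe_add, hL1Mu, hbMu, has,
      filter_split Mu (fun d => ¬ 23 ∣ d) (fun d => ¬ 253 ∣ d) fun d _ h h' => h (Dvd.dvd.trans (by norm_num) h'),
      add_assoc]
    congr 1
    rw [filter_split Mu (fun d => 23 ∣ d ∧ isY d = true) (fun d => ¬¬23 ∣ d ∧ ¬253 ∣ d) fun d _ h =>
      ⟨not_not.2 h.1, fun h' => (hexcl d).2.2.2 h.2 (Dvd.dvd.trans (by norm_num) h')⟩]
    congr 1
    refine Multiset.filter_congr fun d hd => ?_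
    constructor
    · rintro ⟨h23, hX⟩
      refine ⟨fun h => ?_, not_not.2 h23, fun h' => ((hexcl d).2.2.1 hX).1 (Dvd.dvd.trans (by norm_num) h')⟩
      have := ((hexcl d).2.2.1 hX).2
      rw [h.2] at this
      cases this
    · rintro ⟨h1, h23, h253⟩
      rw [not_not] at h23
      refine ⟨h23, ?_⟩
      rcases D.cls11 d hd with h | h | h
      · exact absurd (Nat.Coprime.mul_dvd_of_dvd_of_dvd (by norm_num : Nat.Coprime 23 11) h23
          (Nat.dvd_of_mod_eq_zero h)) h253
      · exact h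
      · exact absurd ⟨h23, h⟩ h1
  have hLle : (↑L : Multiset ℕ) ≤ Mu := hL ▸ Multiset.filter_le _ _
  have hzero : ∀ d ∈ Mu, 253 ∣ d → t23 d = 0 ∧ t11 d = 0 := fun d hd h => by
    have h0 : d % 11 = 0 := Nat.mod_eq_zero_of_dvd (Dvd.dvd.trans (by norm_num) h)
    refine ⟨h23zero d hd (Dvd.dvd.trans (by norm_num) h), ?_⟩
    simp [t11, h0]
  have hLsum : ∀ F : ℕ → ℤ, (∀ d ∈ Mu, 253 ∣ d → F d = 0) → ((↑L : Multiset ℕ).map F).sum = (Mu.map F).sum := by
    intro F hF
    conv_rhs => rw [← Multiset.filter_add_not (fun d => ¬ 253 ∣ d) Mu, Multiset.map_add, Multiset.sum_add, ← hL]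
    rw [Multiset.sum_eq_zero (s := Multiset.map _ (Multiset.filter _ Mu)), add_zero]
    intro z hz
    obtain ⟨d, hd, rfl⟩ := Multiset.mem_map.1 hz
    obtain ⟨h1, h2⟩ := Multiset.mem_filter.1 hd
    exact hF d h1 (not_not.1 h2)
  simp only [check2, List.all_eq_true] at s1
  have s2 := forA_spec St.of St.of_step St.pre_prefix xs11 _ (L1 ++ b) (s1 b hbopt) a ha (hpre hLle)
  have hrel11 : Nat.beq (St.of L).a11 (St.of L).b11 = true := by
    rw [Nat.beq_eq]
    exact balance t11 L ((hLsum _ fun d hd h => by rw [(hzero d hd h).2, zero_mul]).trans D.rel11)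
  have horth : isum (fun d => t23 d * t11 d) L = 0 := by
    rw [isum_coe]
    exact (hLsum _ fun d hd h => by rw [(hzero d hd h).1, zero_mul]).trans D.orth
  rw [show L1 ++ b ++ a = L from rfl] at s2
  simp only [Bool.or_eq_true, Bool.not_eq_true', ← Bool.not_eq_true, Bool.and_eq_true, decide_eq_true_eq] at s2
  have s3 := s2.resolve_left fun h => h ⟨hrel11, horth⟩
  -- the families at 5 and 7
  have hrest : ∀ g : ℕ → ℕ, wsum g L + ((Mu.filter fun d => 253 ∣ d).map g).sum = (Mu.map g).sum := by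
    intro g
    conv_rhs => rw [← Multiset.filter_add_not (fun d => 253 ∣ d) Mu, Multiset.map_add, Multiset.sum_add]
    rw [wsum_coe, hL, add_comm]
  have hp3 : ∀ {l : List ℕ}, (↑l : Multiset ℕ) ≤ Mu.erase 1 → pre3 L l = true := by
    intro l hl
    simp only [pre3, Bool.and_eq_true, Nat.ble_eq]
    refine ⟨D.count_L hL hl, ?_⟩
    have h1 := D.zw_le sq hl
    have h2 := hrest sq
    have := D.hsq
    omega
  have havail : ∀ (qf : ℕ → Bool) {l : List ℕ}, (↑l : Multiset ℕ) ≤ Mu.erase 1 → ∀ d ∈ l, qf d = true →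
      d ∈ avail qf L := by
    intro qf l hl d hd hqd
    rw [avail, List.mem_filter, List.mem_append, List.mem_dedup]
    refine ⟨?_, hqd⟩
    by_cases hz : d ∈ zs
    · exact Or.inr hz
    refine Or.inl ?_
    have h := D.count_L hL hl
    simp only [fits, List.all_eq_true, Bool.or_eq_true, List.contains_iff_mem, Nat.ble_eq] at h
    have h' := (h d hd).resolve_left hz
    exact List.count_pos_iff.1 (lt_of_lt_of_le (List.count_pos_iff.2 hd) h')
  obtain ⟨a5, ha5l, ha5le, ha5X, ha5ok⟩ := D.fam5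
  obtain ⟨b7, y7, hb7l, hb7le, hb7X, hy7, hb7ok⟩ := D.fam7
  obtain ⟨a5', ha5', ha5e⟩ := exists_multiCombo (avail (isX 5) L) (↑a5) fun d hd =>
    havail _ ha5le d (Multiset.mem_coe.1 hd) (ha5X d (Multiset.mem_coe.1 hd))
  rw [Multiset.coe_card, ha5l] at ha5'
  have hb7le' : (↑b7 : Multiset ℕ) ≤ Mu.erase 1 :=
    le_trans (by rw [← Multiset.coe_add]; exact Multiset.le_add_right _ _) hb7le
  obtain ⟨b7', hb7', hb7e⟩ := exists_multiCombo (avail (isX 7) L) (↑b7) fun d hd =>
    havail _ hb7le' d (Multiset.mem_coe.1 hd) (hb7X d (Multiset.mem_coe.1 hd))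
  rw [Multiset.coe_card, hb7l] at hb7'
  have hst3 : ∀ (acc : List ℕ) (a j : ℕ), id (acc ++ List.replicate j a) = id acc ++ List.replicate j a :=
    fun _ _ _ => rfl
  rw [check3] at s3
  have s4 := forA_spec (σ := List ℕ) id hst3 (pre3_prefix L) _ 4 [] s3 a5' ha5' (hp3 (ha5e.symm ▸ ha5le))
  rw [List.nil_append] at s4
  simp only [id, Bool.or_eq_true, Bool.not_eq_true', ← Bool.not_eq_true] at s4
  have s5 := s4.resolve_left fun h => h ((ok5_perm (Multiset.coe_eq_coe.1 ha5e)).trans ha5ok)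
  rw [check4] at s5
  have s6 := forA_spec (σ := List ℕ) id hst3 (pre3_prefix L) _ 2 [] s5 b7' hb7' (hp3 (hb7e.symm ▸ hb7le'))
  rw [List.nil_append, List.all_eq_true] at s6
  have hy7mem : y7 ∈ avail isY7 L := havail _ hb7le y7 (by simp) hy7
  have s7 := s6 y7 hy7mem
  simp only [id, Bool.or_eq_true, Bool.not_eq_true', ← Bool.not_eq_true, Bool.and_eq_true] at s7
  have hbe : (↑(b7' ++ [y7, y7]) : Multiset ℕ) ≤ Mu.erase 1 := by
    rw [← Multiset.coe_add, hb7e, Multiset.coe_add]
    exact hb7le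
  have hext : ∀ g : ℕ → ℕ, extra g a5' (b7' ++ [y7, y7]) ≤ ((Mu.filter fun d => 253 ∣ d).map g).sum := by
    intro g
    rw [zs_weight g _ fun d hd => D.mem_zs (Multiset.mem_filter.1 hd).1 (Multiset.mem_filter.1 hd).2]
    refine List.sum_le_sum fun d hd => Nat.mul_le_mul_right _ ?_
    rw [Multiset.count_filter_of_pos (zs_dvd d hd), ← Multiset.coe_count, ← Multiset.coe_count]
    exact max_le ((Multiset.count_le_of_le d (ha5e ▸ ha5le)).trans (Multiset.count_le_of_le d (Multiset.erase_le 1 Mu)))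
      ((Multiset.count_le_of_le d hbe).trans (Multiset.count_le_of_le d (Multiset.erase_le 1 Mu)))
  have hwithin : within L a5' (b7' ++ [y7, y7]) = true := by
    simp only [within, Bool.and_eq_true, Nat.ble_eq]
    have h1 := hext sq; have h2 := hext (res 7); have h3 := hext (res 5)
    have := hrest sq; have := hrest (res 7); have := hrest (res 5)
    have := D.hsq; have := D.h7; have := D.h5
    omega
  have s8 := s7.resolve_left fun h => h ⟨⟨(ok7_perm (Multiset.coe_eq_coe.1 hb7e) y7).trans hb7ok, D.count_L hL hbe⟩, hwithin⟩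
  simp only [goal, Bool.and_eq_true, Nat.beq_eq, List.all_eq_true] at s8
  obtain ⟨⟨hcnt, hlen⟩, h2024⟩ := s8
  have hle' : (↑target : Multiset ℕ) ≤ ↑L := Multiset.le_iff_count.2 fun d => by
    simp only [Multiset.coe_count]
    by_cases hd : d ∈ target
    · exact (hcnt d hd).ge
    · rw [List.count_eq_zero.2 hd]; exact Nat.zero_le _
  refine ⟨?_, ?_⟩
  · rw [← hL]
    exact (Multiset.eq_of_le_of_card_le hle' (le_of_eq hlen)).symm
  · have hmem : 2024 ∈ a5' := List.count_pos_iff.1 (by rw [h2024]; norm_num)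
    exact Multiset.mem_of_mem_erase (Multiset.mem_of_le (ha5e ▸ ha5le) (Multiset.mem_coe.2 hmem))

theorem sq_253 : sq 253 = 64009 := rfl

/-- All degrees. -/
theorem DegProps.all (D : DegProps Mu) : Mu = ↑target + {253, 2024} := by
  classical
  obtain ⟨hs, h2024⟩ := D.small
  set R := Mu.filter fun d => 253 ∣ d with hR
  have hsplit : Mu = ↑target + R := by rw [← hs, add_comm, hR, Multiset.filter_add_not]
  have h2R : 2024 ∈ R := Multiset.mem_filter.2 ⟨h2024, by norm_num⟩
  have hsum : (R.map sq).sum = 4160585 := by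
    have := D.hsq
    rw [hsplit, Multiset.map_add, Multiset.sum_add] at this
    have e : ((↑target : Multiset ℕ).map sq).sum = 6040375 := by decide
    omega
  obtain ⟨R', hR'⟩ := Multiset.exists_cons_of_mem h2R
  have hsum' : (R'.map sq).sum = 64009 := by
    rw [hR', Multiset.map_cons, Multiset.sum_cons] at hsum
    have e : sq 2024 = 4096576 := rfl
    omega
  have hzs : ∀ d ∈ R', d ∈ zs := fun d hd => by
    have : d ∈ R := by rw [hR']; exact Multiset.mem_cons_of_mem hd
    exact D.mem_zs (Multiset.mem_filter.1 this).1 (Multiset.mem_filter.1 this).2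
  have h253 : ∀ d ∈ R', d = 253 := fun d hd => by
    have h1 : sq d ≤ 64009 := hsum' ▸ Multiset.single_le_sum (fun _ _ => Nat.zero_le _) _ (Multiset.mem_map_of_mem _ hd)
    have hz := hzs d hd
    have hall : ∀ d ∈ zs, sq d ≤ 64009 → d = 253 := by decide
    exact hall d hz h1
  have hrep := Multiset.eq_replicate_card.2 h253
  have hc : R'.card = 1 := by
    rw [hrep, Multiset.map_replicate, Multiset.sum_replicate, sq_253, smul_eq_mul] at hsum'
    omega
  rw [hc, Multiset.replicate_one] at hrep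
  rw [hsplit, hR', hrep]
  congr 1
  exact Multiset.cons_swap 2024 253 0

end Cfsg.Agent.M23Uniq
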