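import Cfsg.Agent.Lib.M23Uniq.Blocks
import Cfsg.Agent.Lib.M23Uniq.DegreeList
import Cfsg.Agent.Lib.M23Uniq.Locals
import Cfsg.Agent.Lib.Blocks.RegTrExact

/-!
The degrees of the irreducible characters of a simple group of order 10200960.
-/

set_option linter.unusedSectionVars false
set_option linter.style.haveILetI false

namespace Cfsg.Agent.M23Uniq

open Cfsg Cfsg.Agent.Char Cfsg.Agent.Blocks Cfsg.Agent.DefOne Cfsg.Agent.DefectZero

open scoped ComplexConjugate

universe u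

variable {G : Type u} [Group G] [Fintype G]

/-- The degree of a character. -/
noncomputable abbrev dg (χ : IrrCharacter G) : ℕ := charDegree (χ : G → ℂ)

/-- All degrees, with multiplicity. -/
noncomputable def degMS (G : Type u) [Group G] [Fintype G] : Multiset ℕ :=
  (Finset.univ : Finset (IrrCharacter G)).val.map fun χ : IrrCharacter G => dg χ

theorem Locals.sylow_card (L : Locals G) {p : ℕ} [Fact p.Prime] (h1 : p ∣ 10200960)
    (h2 : ¬ p ^ 2 ∣ 10200960) (P : Sylow p G) : Nat.card P = p := by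
  have hp : p.Prime := Fact.out
  have hfac : (Nat.card G).factorization p = 1 := by
    rw [L.card]
    have a1 := (hp.dvd_iff_one_le_factorization (by norm_num : (10200960 : ℕ) ≠ 0)).1 h1
    have a2 : ¬ 2 ≤ (10200960 : ℕ).factorization p := fun h =>
      h2 ((hp.pow_dvd_iff_le_factorization (by norm_num)).2 h)
    omega
  rw [Sylow.card_eq_multiplicity, hfac, pow_one]

theorem Locals.not_prime (L : Locals G) : ¬ (Nat.card G).Prime := by rw [L.card]; norm_num

theorem Locals.eq_principal (L : Locals G) {χ : IrrCharacter G} (h : dg χ = 1) : χ = principal G :=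
  haveI := L.simple
  DefOne.Order7920.eq_principal_of_deg_one L.not_prime h

theorem dg_principal : dg (principal G) = 1 := Cfsg.Agent.CharX.charDegree_one

/-- The principal families at a prime dividing the order once. -/
theorem pfam_at {p e k : ℕ} [Fact p.Prime] (hp2 : 2 < p)
    (hc : ∀ x : G, orderOf x = p → Nat.card (Subgroup.centralizer ({x} : Set G)) = p * k)
    (hn : ∀ P : Sylow p G, Nat.card (Subgroup.normalizer ((P : Subgroup G) : Set G)) = e * (p * k))
    (P : Sylow p G) (hP : Nat.card P = p) [Fintype (P : Subgroup G)] :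
    ∃ (X Y : Finset (IrrCharacter G)) (δ : ℤ), PFam p e (P : Subgroup G) X Y δ ∧
      (k = 1 → ∀ χ, ¬ p ∣ dg χ → χ ∈ X ∨ χ ∈ Y) ∧
      (∀ χ, p ∣ dg χ → tsum' (P : Subgroup G) χ = 0) ∧
      (∀ χ : IrrCharacter G, p ∣ dg χ → ∀ y ∈ (P : Subgroup G), y ≠ 1 → (χ : G → ℂ) y = 0) ∧
      (k = 2 → ∀ χ, χ ∉ X → χ ∉ Y → ∀ z : G, orderOf z = 2 →
        z ∈ Subgroup.centralizer ((P : Subgroup G) : Set G) →
        ∃ m : ℕ, (dg χ : ℂ) + (χ : G → ℂ) z = (2 * p * m : ℕ)) := by
  classical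
  have hp : p.Prime := Fact.out
  obtain ⟨V, e', K, -⟩ := exists_conf hp P hP
  haveI : Fintype V := Fintype.ofFinite _
  haveI : Fintype (Subgroup.normalizer ((P : Subgroup G) : Set G)) := Fintype.ofFinite _
  haveI : Fintype ((P : Subgroup G) →* ℂˣ) := Fintype.ofFinite _
  obtain ⟨y, hy, hy1⟩ : ∃ y ∈ (P : Subgroup G), y ≠ 1 := by
    by_contra h
    push Not at h
    exact hp.ne_one (hP ▸ Subgroup.card_eq_one.2 (eq_bot_iff.2 fun z hz => Subgroup.mem_bot.2 (h z hz)))
  have hV : Nat.card V = k := by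
    have h := card_centralizer K
    rw [centralizer_P K hy hy1, hc y (orderOf_P K hy hy1)] at h
    exact (Nat.eq_of_mul_eq_mul_left hp.pos h).symm
  have he : e' = e := by
    have h := hn P
    rw [K.D.hcard, show Nat.card (P : Subgroup G) = p from hP, hV] at h
    exact Nat.eq_of_mul_eq_mul_right (Nat.mul_pos hp.pos (hV ▸ Nat.card_pos)) h
  subst he
  obtain ⟨M, hM⟩ := exists_isPModular_witness p
  haveI := IsPModular.isPrime hM
  obtain ⟨X, Y, δ, F, hmem⟩ := exists_pfam hM K hp2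
  refine ⟨X, Y, δ, F, fun hk χ h => (hmem χ).1 (mem_principal_of_self_centralizing hM K (hV.trans hk) h),
    fun χ h => tsum'_of_dvd hM K h, fun χ h y hy hy1 => value_zero_of_dvd hM K h hy hy1,
    fun hk χ hX hY z hz hzC => ?_⟩
  obtain ⟨m, hm⟩ := sum_nonprincipal hM K (χ := χ) fun h => ((hmem χ).1 h).elim hX hY
  have hzV : z ∈ V := mem_V_of_regular K hzC (by
    rw [hz]
    intro h
    have := Nat.le_of_dvd (by norm_num) h
    omega)
  have hz1 : (⟨z, hzV⟩ : V) ≠ 1 := fun e => by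
    rw [show z = 1 from congrArg Subtype.val e, orderOf_one] at hz
    omega
  have hu : (Finset.univ : Finset V) = {1, ⟨z, hzV⟩} := (Finset.eq_univ_of_card _ (by
    rw [Finset.card_pair hz1.symm, ← Nat.card_eq_fintype_card, hV, hk])).symm
  refine ⟨m, ?_⟩
  rw [hu, Finset.sum_pair hz1.symm, hV, hk, OneMemClass.coe_one, irr_one_eq_charDegree] at hm
  rw [hm]
  push_cast
  ring

theorem int_mod_cases {p d : ℕ} {a : ℤ} (hp : 0 < p) (h : (d : ℤ) ≡ a [ZMOD p]) :
    ((d % p : ℕ) : ℤ) = a % (p : ℤ) := by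
  push_cast
  exact h

/-- The integral sums of a family. -/
theorem relation_int {p e : ℕ} {P : Subgroup G} [Fintype P] {X Y : Finset (IrrCharacter G)} {δ : ℤ}
    (F : PFam p e P X Y δ) (hp : p.Prime) (Q : Subgroup G) [Fintype Q] (hQ : ¬ p ∣ Nat.card Q)
    (t : ℕ → ℤ) (ht : ∀ χ, tsum' Q χ = (t (dg χ) : ℂ)) {θ : IrrCharacter G} (hθ : θ ∈ Y) :
    ∑ χ ∈ X, sgn p (dg χ) * t (dg χ) + δ * t (dg θ) = 0 := by
  have h := F.rel_tsum hp Q hQ hθ
  simp only [ht] at h
  exact_mod_cast h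

theorem relation_deg {p e : ℕ} {P : Subgroup G} [Fintype P] {X Y : Finset (IrrCharacter G)} {δ : ℤ}
    (F : PFam p e P X Y δ) (hp : p.Prime) {θ : IrrCharacter G} (hθ : θ ∈ Y) :
    ∑ χ ∈ X, sgn p (dg χ) * (dg χ : ℤ) + δ * (dg θ : ℤ) = 0 := by
  have h := F.rel θ hθ 1 (by simpa using hp.ne_one)
  simp only [irr_one_eq_charDegree] at h
  exact_mod_cast h

theorem card_filter_degMS (q : ℕ → Prop) [DecidablePred q] (S : Finset (IrrCharacter G))
    (h : ∀ χ, q (dg χ) ↔ χ ∈ S) : (degMS G).filter q = S.val.map fun χ => dg χ := by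
  classical
  rw [degMS, Multiset.filter_map]
  congr 1
  rw [← Finset.filter_val]
  congr 1
  ext χ
  simp only [Finset.mem_filter, Finset.mem_univ, true_and, Function.comp]
  exact h χ

theorem sum_degMS {β : Type} [AddCommMonoid β] (f : ℕ → β) :
    ((degMS G).map f).sum = ∑ χ : IrrCharacter G, f (dg χ) := by
  rw [degMS, Multiset.map_map]
  rfl

theorem erase_le_degMS (L : Locals G) (S : Finset (IrrCharacter G)) (hS : principal G ∉ S) :
    S.val.map (fun χ => dg χ) ≤ (degMS G).erase 1 := by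
  classical
  have h : degMS G = 1 ::ₘ ((Finset.univ.erase (principal G)).val.map fun χ => dg χ) := by
    rw [degMS, Finset.erase_val]
    conv_lhs => rw [← Multiset.cons_erase (show principal G ∈ (Finset.univ : Finset (IrrCharacter G)).val from
      Finset.mem_univ_val _), Multiset.map_cons, dg_principal]
  rw [h, Multiset.erase_cons_head]
  refine Multiset.map_le_map (Finset.val_le_iff.2 fun χ hχ => ?_)
  exact Finset.mem_erase.2 ⟨fun e => hS (e ▸ hχ), Finset.mem_univ _⟩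

theorem data23 (L : Locals G) (P : Sylow 23 G) [Fintype (P : Subgroup G)] :
    ∃ (X Y : Finset (IrrCharacter G)), X.card = 11 ∧ Y.card = 2 ∧
      (∀ χ, (isX 23 (dg χ) = true ↔ χ ∈ X) ∧ (isY23 (dg χ) = true ↔ χ ∈ Y) ∧
        (23 ∣ dg χ ∨ χ ∈ X ∨ χ ∈ Y) ∧ tsum' (P : Subgroup G) χ = (t23 (dg χ) : ℂ)) ∧
      ∀ θ ∈ Y, ∀ θ' ∈ Y, dg θ = dg θ' := by
  haveI : Fact (Nat.Prime 23) := ⟨by norm_num⟩
  obtain ⟨X, Y, δ, F, hall, hz, -, -⟩ := pfam_at (p := 23) (e := 11) (k := 1) (by norm_num)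
    (fun x hx => by rw [L.c23 x hx]) (fun Q => by rw [L.n23 Q]) P
    (L.sylow_card (by norm_num) (by norm_num) P)
  have hYc : Y.card = 2 := by have := F.cardY; omega
  refine ⟨X, Y, F.cardX, hYc, fun χ => ?_, F.eqY⟩
  have hX : χ ∈ X → (dg χ % 23 = 1 ∨ dg χ % 23 = 22) ∧ tsum' (P : Subgroup G) χ = (t23 (dg χ) : ℂ) := by
    intro h
    refine ⟨F.degX χ h, ?_⟩
    rw [F.tX χ h, t23, sgn]
    rcases F.degX χ h with e | e <;> simp [e]
  have hY : χ ∈ Y → (dg χ % 23 = 11 ∨ dg χ % 23 = 12) ∧ tsum' (P : Subgroup G) χ = (t23 (dg χ) : ℂ) := by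
    intro h
    have h1 := int_mod_cases (d := dg χ) (by norm_num) (F.degY χ h)
    rw [F.tY χ h, t23]
    rcases F.sign with rfl | rfl
    · have e : dg χ % 23 = 12 := by omega
      exact ⟨Or.inr e, by simp [e]⟩
    · have e : dg χ % 23 = 11 := by omega
      exact ⟨Or.inl e, by simp [e]⟩
  by_cases h23 : 23 ∣ dg χ
  · have e := Nat.mod_eq_zero_of_dvd h23
    refine ⟨⟨fun h => ?_, fun h => ?_⟩, ⟨fun h => ?_, fun h => ?_⟩, Or.inl h23, ?_⟩
    · simp [isX, e] at h
    · have := (hX h).1; omega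
    · simp [isY23, e] at h
    · have := (hY h).1; omega
    · rw [hz χ h23, t23]; simp [e]
  · rcases hall rfl χ h23 with h | h
    · have hn : χ ∉ Y := Finset.disjoint_left.1 F.disj h
      obtain ⟨h1, h2⟩ := hX h
      refine ⟨iff_of_true ?_ h, iff_of_false ?_ hn, Or.inr (Or.inl h), h2⟩
      · simpa [isX] using h1
      · simp only [isY23, Bool.or_eq_true, Nat.beq_eq]; omega
    · have hn : χ ∉ X := Finset.disjoint_right.1 F.disj h
      obtain ⟨h1, h2⟩ := hY h
      refine ⟨iff_of_false ?_ hn, iff_of_true ?_ h, Or.inr (Or.inr h), h2⟩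
      · simp only [isX, Bool.or_eq_true, Nat.beq_eq]; omega
      · simpa [isY23] using h1

theorem data11 (L : Locals G) (P : Sylow 11 G) [Fintype (P : Subgroup G)] :
    ∃ (X Y : Finset (IrrCharacter G)), X.card = 5 ∧ Y.card = 2 ∧
      (∀ χ, (isX 11 (dg χ) = true ↔ χ ∈ X) ∧ (isY (dg χ) = true ↔ χ ∈ Y) ∧
        (dg χ % 11 = 0 ∨ χ ∈ X ∨ χ ∈ Y) ∧ tsum' (P : Subgroup G) χ = (t11 (dg χ) : ℂ)) ∧
      ∀ θ ∈ Y, ∀ θ' ∈ Y, dg θ = dg θ' := by
  haveI : Fact (Nat.Prime 11) := ⟨by norm_num⟩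
  obtain ⟨X, Y, δ, F, hall, hz, -, -⟩ := pfam_at (p := 11) (e := 5) (k := 1) (by norm_num)
    (fun x hx => by rw [L.c11 x hx]) (fun Q => by rw [L.n11 Q]) P
    (L.sylow_card (by norm_num) (by norm_num) P)
  have hYc : Y.card = 2 := by have := F.cardY; omega
  refine ⟨X, Y, F.cardX, hYc, fun χ => ?_, F.eqY⟩
  have hX : χ ∈ X → (dg χ % 11 = 1 ∨ dg χ % 11 = 10) ∧ tsum' (P : Subgroup G) χ = (t11 (dg χ) : ℂ) := by
    intro h
    refine ⟨F.degX χ h, ?_⟩
    rw [F.tX χ h, t11, sgn]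
    rcases F.degX χ h with e | e <;> simp [e]
  have hY : χ ∈ Y → (dg χ % 11 = 5 ∨ dg χ % 11 = 6) ∧ tsum' (P : Subgroup G) χ = (t11 (dg χ) : ℂ) := by
    intro h
    have h1 := int_mod_cases (d := dg χ) (by norm_num) (F.degY χ h)
    rw [F.tY χ h, t11]
    rcases F.sign with rfl | rfl
    · have e : dg χ % 11 = 6 := by omega
      exact ⟨Or.inr e, by simp [e]⟩
    · have e : dg χ % 11 = 5 := by omega
      exact ⟨Or.inl e, by simp [e]⟩
  by_cases h11 : 11 ∣ dg χ
  · have e := Nat.mod_eq_zero_of_dvd h11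
    refine ⟨⟨fun h => ?_, fun h => ?_⟩, ⟨fun h => ?_, fun h => ?_⟩, Or.inl e, ?_⟩
    · simp [isX, e] at h
    · have := (hX h).1; omega
    · simp [isY, e] at h
    · have := (hY h).1; omega
    · rw [hz χ h11, t11]; simp [e]
  · rcases hall rfl χ h11 with h | h
    · have hn : χ ∉ Y := Finset.disjoint_left.1 F.disj h
      obtain ⟨h1, h2⟩ := hX h
      refine ⟨iff_of_true ?_ h, iff_of_false ?_ hn, Or.inr (Or.inl h), h2⟩
      · simpa [isX] using h1
      · simp only [isY, Bool.or_eq_true, Nat.beq_eq]; omega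
    · have hn : χ ∉ X := Finset.disjoint_right.1 F.disj h
      obtain ⟨h1, h2⟩ := hY h
      refine ⟨iff_of_false ?_ hn, iff_of_true ?_ h, Or.inr (Or.inr h), h2⟩
      · simp only [isX, Bool.or_eq_true, Nat.beq_eq]; omega
      · simpa [isY] using h1

theorem data5 (L : Locals G) (Q₁ : Sylow 23 G) [Fintype (Q₁ : Subgroup G)] (Q₂ : Sylow 11 G)
    [Fintype (Q₂ : Subgroup G)] :
    ∃ a : List ℕ, a.length = 4 ∧ (↑a : Multiset ℕ) ≤ (degMS G).erase 1 ∧ (∀ d ∈ a, isX 5 d = true) ∧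
      ok5 a = true := by
  classical
  haveI : Fact (Nat.Prime 5) := ⟨by norm_num⟩
  haveI : Fact (Nat.Prime 23) := ⟨by norm_num⟩
  haveI : Fact (Nat.Prime 11) := ⟨by norm_num⟩
  obtain ⟨_, _, _, _, h23, -⟩ := data23 L Q₁
  obtain ⟨_, _, _, _, h11, -⟩ := data11 L Q₂
  obtain ⟨P⟩ : Nonempty (Sylow 5 G) := inferInstance
  haveI : Fintype (P : Subgroup G) := Fintype.ofFinite _
  obtain ⟨X, Y, δ, F, -, -, -, -⟩ := pfam_at (p := 5) (e := 4) (k := 3) (by norm_num)
    (fun x hx => by rw [L.c5 x hx]) (fun Q => by rw [L.n5 Q]) P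
    (L.sylow_card (by norm_num) (by norm_num) P)
  obtain ⟨θ, rfl⟩ := Finset.card_eq_one.1 (show Y.card = 1 by have := F.cardY; omega)
  have hθ := Finset.mem_singleton_self θ
  have hθX : θ ∉ X := Finset.disjoint_right.1 F.disj hθ
  have hθd : δ = sgn 5 (dg θ) ∧ (dg θ % 5 = 1 ∨ dg θ % 5 = 4) := by
    have h1 := int_mod_cases (d := dg θ) (by norm_num) (F.degY θ hθ)
    rcases F.sign with rfl | rfl
    · have e : dg θ % 5 = 1 := by omega
      exact ⟨by rw [sgn, if_pos e], Or.inl e⟩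
    · have e : dg θ % 5 = 4 := by omega
      exact ⟨by rw [sgn, if_neg (by omega)], Or.inr e⟩
  set S := insert θ X with hS
  have hpr : principal G ∈ S := by
    rcases F.principal with h | h
    · exact Finset.mem_insert_of_mem h
    · rw [Finset.singleton_inj] at h
      exact h ▸ Finset.mem_insert_self θ X
  have hdeg : ∀ χ ∈ S, dg χ % 5 = 1 ∨ dg χ % 5 = 4 := by
    intro χ hχ
    rcases Finset.mem_insert.1 hχ with rfl | h
    · exact hθd.2
    · exact F.degX χ h
  have hrel : ∀ f : ℕ → ℤ, ∑ χ ∈ X, sgn 5 (dg χ) * f (dg χ) + δ * f (dg θ) = 0 →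
      f 1 + ∑ χ ∈ S.erase (principal G), sgn 5 (dg χ) * f (dg χ) = 0 := by
    intro f hf
    have h2 : ∑ χ ∈ S, sgn 5 (dg χ) * f (dg χ) = 0 := by
      rw [hS, Finset.sum_insert hθX, ← hθd.1, add_comm]
      exact hf
    rw [← Finset.add_sum_erase _ _ hpr, dg_principal, show sgn 5 1 = 1 from rfl, one_mul] at h2
    exact h2
  have ha : ((S.erase (principal G)).toList.map fun χ => dg χ : Multiset ℕ) =
      (S.erase (principal G)).val.map fun χ => dg χ := by
    rw [← Multiset.map_coe, Finset.coe_toList]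
  have hsum : ∀ f : ℕ → ℤ, isum f ((S.erase (principal G)).toList.map fun χ => dg χ) =
      ∑ χ ∈ S.erase (principal G), f (dg χ) := fun f => by
    rw [isum, List.map_map, Finset.sum_map_toList]
    rfl
  refine ⟨(S.erase (principal G)).toList.map fun χ => dg χ, ?_, ?_, fun d hd => ?_, ?_⟩
  · rw [List.length_map, Finset.length_toList, Finset.card_erase_of_mem hpr, hS,
      Finset.card_insert_of_notMem hθX, F.cardX]
  · rw [ha]
    exact erase_le_degMS L _ (Finset.notMem_erase _ _)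
  · obtain ⟨χ, hχ, rfl⟩ := List.mem_map.1 hd
    simpa [isX] using hdeg χ (Finset.mem_of_mem_erase (Finset.mem_toList.1 hχ))
  · have h1 := hrel (fun d => (d : ℤ)) (relation_deg F (by norm_num) hθ)
    have h2 := hrel t23 (relation_int F (by norm_num) (Q₁ : Subgroup G)
      (by rw [show Nat.card (Q₁ : Subgroup G) = 23 from L.sylow_card (by norm_num) (by norm_num) Q₁]; norm_num)
      t23 (fun χ => (h23 χ).2.2.2) hθ)
    have h3 := hrel t11 (relation_int F (by norm_num) (Q₂ : Subgroup G)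
      (by rw [show Nat.card (Q₂ : Subgroup G) = 11 from L.sylow_card (by norm_num) (by norm_num) Q₂]; norm_num)
      t11 (fun χ => (h11 χ).2.2.2) hθ)
    simp only [ok5, Bool.and_eq_true, decide_eq_true_eq, hsum]
    exact ⟨⟨h1, h2⟩, h3⟩

theorem data7 (L : Locals G) (Q₁ : Sylow 23 G) [Fintype (Q₁ : Subgroup G)] (Q₂ : Sylow 11 G)
    [Fintype (Q₂ : Subgroup G)] :
    ∃ (b : List ℕ) (y : ℕ), b.length = 2 ∧ (↑(b ++ [y, y]) : Multiset ℕ) ≤ (degMS G).erase 1 ∧
      (∀ d ∈ b, isX 7 d = true) ∧ isY7 y = true ∧ ok7 b y = true := by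
  classical
  haveI : Fact (Nat.Prime 7) := ⟨by norm_num⟩
  haveI : Fact (Nat.Prime 23) := ⟨by norm_num⟩
  haveI : Fact (Nat.Prime 11) := ⟨by norm_num⟩
  obtain ⟨_, _, _, _, h23, -⟩ := data23 L Q₁
  obtain ⟨_, _, _, _, h11, -⟩ := data11 L Q₂
  obtain ⟨P⟩ : Nonempty (Sylow 7 G) := inferInstance
  haveI : Fintype (P : Subgroup G) := Fintype.ofFinite _
  obtain ⟨X, Y, δ, F, -, -, -, -⟩ := pfam_at (p := 7) (e := 3) (k := 2) (by norm_num)
    (fun x hx => by rw [L.c7 x hx]) (fun Q => by rw [L.n7 Q]) P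
    (L.sylow_card (by norm_num) (by norm_num) P)
  have hYc : Y.card = 2 := by have := F.cardY; omega
  obtain ⟨θ, θ', hne, hY⟩ := Finset.card_eq_two.1 hYc
  have hθ : θ ∈ Y := hY ▸ Finset.mem_insert_self _ _
  have hpr : principal G ∈ X := by
    refine F.principal.resolve_right fun h => ?_
    rw [h, Finset.card_singleton] at hYc
    omega
  have hδ : δ = sg7 (dg θ) ∧ (dg θ % 7 = 3 ∨ dg θ % 7 = 4) := by
    have h1 := int_mod_cases (d := dg θ) (by norm_num) (F.degY θ hθ)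
    rcases F.sign with rfl | rfl
    · have e : dg θ % 7 = 4 := by omega
      exact ⟨by rw [sg7, if_neg (by omega)], Or.inr e⟩
    · have e : dg θ % 7 = 3 := by omega
      exact ⟨by rw [sg7, if_pos e], Or.inl e⟩
  have hsum : ∀ f : ℕ → ℤ, isum f ((X.erase (principal G)).toList.map fun χ => dg χ) =
      ∑ χ ∈ X.erase (principal G), f (dg χ) := fun f => by
    rw [isum, List.map_map, Finset.sum_map_toList]
    rfl
  have hrel : ∀ f : ℕ → ℤ, ∑ χ ∈ X, sgn 7 (dg χ) * f (dg χ) + δ * f (dg θ) = 0 →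
      f 1 + ∑ χ ∈ X.erase (principal G), sgn 7 (dg χ) * f (dg χ) + sg7 (dg θ) * f (dg θ) = 0 := by
    intro f hf
    rwa [← Finset.add_sum_erase _ _ hpr, dg_principal, show sgn 7 1 = 1 from rfl, one_mul, hδ.1] at hf
  have hb : (((X.erase (principal G)).toList.map fun χ => dg χ) ++ [dg θ, dg θ] : Multiset ℕ) =
      ((X.erase (principal G)).disjUnion Y (Finset.disjoint_of_subset_left (Finset.erase_subset _ _) F.disj)).val.map
        fun χ => dg χ := by
    rw [← Multiset.coe_add, Finset.disjUnion_val, Multiset.map_add, ← Multiset.map_coe, Finset.coe_toList]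
    congr 1
    rw [hY, Finset.insert_val_of_notMem (by simpa using hne), Finset.singleton_val, Multiset.map_cons,
      Multiset.map_singleton]
    rw [show dg θ' = dg θ from (F.eqY θ hθ θ' (hY ▸ by simp)).symm]
    rfl
  refine ⟨(X.erase (principal G)).toList.map fun χ => dg χ, dg θ, ?_, ?_, fun d hd => ?_, ?_, ?_⟩
  · rw [List.length_map, Finset.length_toList, Finset.card_erase_of_mem hpr, F.cardX]
  · rw [hb]
    refine erase_le_degMS L _ fun h => ?_
    rcases Finset.mem_disjUnion.1 h with h | h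
    · exact Finset.notMem_erase _ _ h
    · exact Finset.disjoint_left.1 F.disj hpr h
  · obtain ⟨χ, hχ, rfl⟩ := List.mem_map.1 hd
    simpa [isX] using F.degX χ (Finset.mem_of_mem_erase (Finset.mem_toList.1 hχ))
  · simpa [isY7] using hδ.2
  · have h1 := hrel (fun d => (d : ℤ)) (relation_deg F (by norm_num) hθ)
    have h2 := hrel t23 (relation_int F (by norm_num) (Q₁ : Subgroup G)
      (by rw [show Nat.card (Q₁ : Subgroup G) = 23 from L.sylow_card (by norm_num) (by norm_num) Q₁]; norm_num)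
      t23 (fun χ => (h23 χ).2.2.2) hθ)
    have h3 := hrel t11 (relation_int F (by norm_num) (Q₂ : Subgroup G)
      (by rw [show Nat.card (Q₂ : Subgroup G) = 11 from L.sylow_card (by norm_num) (by norm_num) Q₂]; norm_num)
      t11 (fun χ => (h11 χ).2.2.2) hθ)
    simp only [ok7, Bool.and_eq_true, decide_eq_true_eq, hsum]
    exact ⟨⟨h1, h2⟩, h3⟩

theorem residue_le (L : Locals G) {p c : ℕ} [Fact p.Prime] (h1 : p ∣ 10200960) (h2 : ¬ p ^ 2 ∣ 10200960)
    (hc : ∀ x : G, orderOf x = p → Nat.card (Subgroup.centralizer ({x} : Set G)) = c) :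
    ((degMS G).map (res p)).sum ≤ (p - 1) * c := by
  obtain ⟨P⟩ : Nonempty (Sylow p G) := inferInstance
  haveI : Fintype (P : Subgroup G) := Fintype.ofFinite _
  rw [sum_degMS]
  exact sum_residue_le (P : Subgroup G) (L.sylow_card h1 h2 P) fun y hy hy1 => hc y
    (orderOf_eq_prime (by
      have h := pow_card_eq_one' (x := (⟨y, hy⟩ : (P : Subgroup G)))
      rw [show Nat.card (P : Subgroup G) = p from L.sylow_card h1 h2 P] at h
      exact congrArg Subtype.val h) hy1)

/-- The degrees. -/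
theorem degrees (L : Locals G) : degMS G = ↑target + {253, 2024} := by
  classical
  haveI : Fact (Nat.Prime 23) := ⟨by norm_num⟩
  haveI : Fact (Nat.Prime 11) := ⟨by norm_num⟩
  haveI : Fact (Nat.Prime 7) := ⟨by norm_num⟩
  haveI : Fact (Nat.Prime 5) := ⟨by norm_num⟩
  obtain ⟨Q₁⟩ : Nonempty (Sylow 23 G) := inferInstance
  obtain ⟨Q₂⟩ : Nonempty (Sylow 11 G) := inferInstance
  haveI : Fintype (Q₁ : Subgroup G) := Fintype.ofFinite _
  haveI : Fintype (Q₂ : Subgroup G) := Fintype.ofFinite _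
  obtain ⟨X, Y, hX, hY, h23, hYeq⟩ := data23 L Q₁
  obtain ⟨X', Y', hX', hY', h11, hYeq'⟩ := data11 L Q₂
  have hmem : ∀ d ∈ degMS G, ∃ χ : IrrCharacter G, dg χ = d := fun d hd => by
    obtain ⟨χ, -, hχ⟩ := Multiset.mem_map.1 hd
    exact ⟨χ, hχ⟩
  have hrep : ∀ S : Finset (IrrCharacter G), S.card = 2 → (∀ θ ∈ S, ∀ θ' ∈ S, dg θ = dg θ') →
      ∃ y, (S.val.map fun χ => dg χ) = Multiset.replicate 2 y := by
    intro S hS heq
    obtain ⟨a, b, hne, rfl⟩ := Finset.card_eq_two.1 hS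
    refine ⟨dg a, ?_⟩
    rw [Finset.insert_val_of_notMem (by simpa using hne), Finset.singleton_val, Multiset.map_cons,
      Multiset.map_singleton, heq b (by simp) a (by simp)]
    rfl
  refine DegProps.all ⟨fun d hd => ?_, ?_, ?_, residue_le L (by norm_num) (by norm_num) L.c7,
    residue_le L (by norm_num) (by norm_num) L.c5, fun d hd => ?_, ?_, ?_, ?_, fun d hd => ?_, ?_, ?_, ?_, ?_,
    data5 L Q₁ Q₂, data7 L Q₁ Q₂⟩
  · obtain ⟨χ, rfl⟩ := hmem d hd
    refine ⟨L.card ▸ charDegree_dvd_card χ, ?_⟩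
    have h := Finset.single_le_sum (f := fun χ : IrrCharacter G => dg χ ^ 2)
      (fun _ _ => Nat.zero_le _) (Finset.mem_univ χ)
    rw [Cfsg.Agent.CharX.sum_deg_sq, L.card] at h
    nlinarith
  · rw [degMS, Multiset.count_map, ← Finset.filter_val, Finset.card_val,
      show (Finset.univ.filter fun χ : IrrCharacter G => 1 = dg χ) = {principal G} from ?_,
      Finset.card_singleton]
    refine Finset.eq_singleton_iff_unique_mem.2 ⟨?_, fun χ hχ => ?_⟩
    · simpa using dg_principal.symm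
    · exact L.eq_principal (Finset.mem_filter.1 hχ).2.symm
  · rw [sum_degMS]
    refine (Finset.sum_congr rfl fun χ _ => ?_).trans (Cfsg.Agent.CharX.sum_deg_sq.trans L.card)
    rw [sq, pow_two]
  · obtain ⟨χ, rfl⟩ := hmem d hd
    obtain ⟨a, b, c, -⟩ := h23 χ
    exact c.imp id (Or.imp a.2 b.2)
  · rw [card_filter_degMS _ X fun χ => (h23 χ).1, Multiset.card_map, Finset.card_val, hX]
  · obtain ⟨y, hy⟩ := hrep Y hY hYeq
    exact ⟨y, by rw [card_filter_degMS _ Y fun χ => (h23 χ).2.1, hy]⟩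
  · rw [sum_degMS]
    have h := sum_deg_tsum' (G := G) (Q₁ : Subgroup G)
    simp only [fun χ => (h23 χ).2.2.2] at h
    rw [Finset.sum_congr rfl fun χ _ => mul_comm _ _]
    exact_mod_cast h
  · obtain ⟨χ, rfl⟩ := hmem d hd
    obtain ⟨a, b, c, -⟩ := h11 χ
    exact c.imp id (Or.imp a.2 b.2)
  · rw [card_filter_degMS _ X' fun χ => (h11 χ).1, Multiset.card_map, Finset.card_val, hX']
  · obtain ⟨y, hy⟩ := hrep Y' hY' hYeq'
    exact ⟨y, by rw [card_filter_degMS _ Y' fun χ => (h11 χ).2.1, hy]⟩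
  · rw [sum_degMS]
    have h := sum_deg_tsum' (G := G) (Q₂ : Subgroup G)
    simp only [fun χ => (h11 χ).2.2.2] at h
    rw [Finset.sum_congr rfl fun χ _ => mul_comm _ _]
    exact_mod_cast h
  · rw [sum_degMS]
    have h := sum_tsum'_tsum' (Q₁ : Subgroup G) (Q₂ : Subgroup G) (by
      rw [show Nat.card (Q₁ : Subgroup G) = 23 from L.sylow_card (by norm_num) (by norm_num) Q₁,
        show Nat.card (Q₂ : Subgroup G) = 11 from L.sylow_card (by norm_num) (by norm_num) Q₂]
      norm_num) fun χ => ⟨_, (h11 χ).2.2.2⟩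
    simp only [fun χ => (h23 χ).2.2.2, fun χ => (h11 χ).2.2.2] at h
    exact_mod_cast h

end Cfsg.Agent.M23Uniq
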