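import Cfsg.Agent.Lib.M23Uniq.Action

/-!
Involutions in a simple group of order 10200960 acting on 23 points.
-/

set_option linter.unusedSectionVars false
set_option linter.style.haveILetI false

namespace Cfsg.Agent.M23Uniq

open Cfsg Cfsg.Agent.Char Cfsg.Agent.Blocks MulAction

open scoped ComplexConjugate

universe u

variable {G : Type u} [Group G] [Fintype G]

/-- The values at an involution of the constituents of the square. -/
theorem Chi22.values_involution (L : Locals G) {χ a b : IrrCharacter G} (E : Chi22 χ a b) {g : G}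
    (hg : orderOf g = 2) {c : ℤ} (hc : (χ : G → ℂ) g = c) :
    ∃ A B : ℤ, (a : G → ℂ) g = A ∧ (b : G → ℂ) g = B ∧ c * c + 22 = 2 * (1 + c + A) ∧ c * c - 22 = 2 * B ∧
      1 + c * c + A * A + B * B ≤ (Nat.card (Subgroup.centralizer ({g} : Set G)) : ℤ) ∧
      (22 : ℤ) ∣ ((Subgroup.centralizer ({g} : Set G)).index : ℤ) * c ∧
      (230 : ℤ) ∣ ((Subgroup.centralizer ({g} : Set G)).index : ℤ) * A ∧
      (231 : ℤ) ∣ ((Subgroup.centralizer ({g} : Set G)).index : ℤ) * B := by
  classical
  haveI := L.simple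
  have hgg : g * g = 1 := by rw [← pow_two, ← hg, pow_orderOf_eq_one]
  have hp : (principal G : G → ℂ) g = 1 := rfl
  have hval : ∀ ψ : IrrCharacter G, ∃ z : ℤ, (ψ : G → ℂ) g = z := fun ψ => by
    obtain ⟨z, hz, -, -⟩ := M12Uniq.involution_mod_four (DefOne.Order7920.hom_eq_one L.not_prime)
      (IsIrrCharacter.isCharacter ψ.2) (irr_one_eq_charDegree ψ) hgg
    exact ⟨z, hz⟩
  choose v hv using hval
  have hvc : v χ = c := by
    have := (hv χ).symm.trans hc
    exact_mod_cast this
  have hvp : v (principal G) = 1 := by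
    have := (hv (principal G)).symm.trans hp
    exact_mod_cast this
  have h1 : (χ : G → ℂ) (g * g) = 22 := by
    rw [hgg, irr_one_eq_charDegree, show charDegree (χ : G → ℂ) = 22 from E.deg]
    norm_num
  have eS := E.symSq g
  have eA := E.extSq g
  rw [h1, hc] at eS eA
  rw [hp, hv a] at eS
  rw [hv b] at eA
  have eS' : c * c + 22 = 2 * (1 + c + v a) := by
    have : ((c * c + 22 : ℤ) : ℂ) = ((2 * (1 + c + v a) : ℤ) : ℂ) := by
      push_cast
      linear_combination 2 * eS
    exact_mod_cast this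
  have eA' : c * c - 22 = 2 * v b := by
    have : ((c * c - 22 : ℤ) : ℂ) = ((2 * v b : ℤ) : ℂ) := by
      push_cast
      linear_combination 2 * eA
    exact_mod_cast this
  refine ⟨v a, v b, hv a, hv b, eS', eA', ?_, ?_, ?_, ?_⟩
  · obtain ⟨n1, n2, n3, n4, n5, n6⟩ := E.ne
    have h := M12Uniq.sum_sq_le g {principal G, χ, a, b} v fun ψ _ => hv ψ
    rw [Finset.sum_insert (by simp [n1.symm, n2.symm, n3.symm]), Finset.sum_insert (by simp [n4, n5]),
      Finset.sum_pair n6, hvp, hvc] at h
    linarith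
  · have h := M12Uniq.dvd_index_mul χ hc
    rw [show charDegree (χ : G → ℂ) = 22 from E.deg] at h
    exact_mod_cast h
  · have h := M12Uniq.dvd_index_mul a (hv a)
    rw [show charDegree (a : G → ℂ) = 230 from E.dega] at h
    exact_mod_cast h
  · have h := M12Uniq.dvd_index_mul b (hv b)
    rw [show charDegree (b : G → ℂ) = 231 from E.degb] at h
    exact_mod_cast h

/-- The centraliser of an involution commuting with an element of order 7. -/
theorem centralizer_card (L : Locals G) {χ a b : IrrCharacter G} (E : Chi22 χ a b) {x z : G}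
    (hx : orderOf x = 7) (hz : orderOf z = 2) (hxz : x * z = z * x) :
    Nat.card (Subgroup.centralizer ({z} : Set G)) = 2688 := by
  classical
  haveI : Fact (Nat.Prime 7) := ⟨by norm_num⟩
  obtain ⟨A, B, -, -, e1, e2, hle, -, h230, h231⟩ := E.values_involution L hz (c := 6)
    (by rw [E.val7 x z hx hz hxz]; norm_num)
  obtain rfl : A = 22 := by omega
  obtain rfl : B = 7 := by omega
  set C := Subgroup.centralizer ({z} : Set G) with hC
  have hidx := Subgroup.card_mul_index C
  rw [L.card] at hidx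
  have hdvd : Nat.card C ∣ 2688 := by
    have a1 : 115 ∣ C.index := by
      have : 230 ∣ C.index * 22 := by exact_mod_cast h230
      omega
    have a2 : 33 ∣ C.index := by
      have : 231 ∣ C.index * 7 := by exact_mod_cast h231
      omega
    obtain ⟨k, hk⟩ := Nat.Coprime.mul_dvd_of_dvd_of_dvd (by norm_num : Nat.Coprime 115 33) a1 a2
    exact ⟨k, by rw [hk] at hidx; linarith⟩
  have hge : 570 ≤ Nat.card C := by
    have : (570 : ℤ) ≤ (Nat.card C : ℤ) := le_trans (by norm_num) hle
    exact_mod_cast this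
  have hxC : x ∈ C := Subgroup.mem_centralizer_singleton_iff.2 hxz
  -- the normalizer of the subgroup of order 7 centralises the involution
  obtain ⟨P, hP⟩ := zpowers_eq_sylow (G := G) (p := 7) (m := 1457280) (by rw [L.card]; norm_num) (by norm_num) hx
  have hzC : z ∈ Subgroup.centralizer ({x} : Set G) := Subgroup.mem_centralizer_singleton_iff.2 hxz.symm
  have hgen : Subgroup.zpowers (x * z) = Subgroup.centralizer ({x} : Set G) := by
    refine Subgroup.eq_of_le_of_card_ge ?_ ?_
    · rw [Subgroup.zpowers_le]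
      exact mul_mem (Subgroup.mem_centralizer_singleton_iff.2 rfl) hzC
    · rw [L.c7 x hx, Nat.card_zpowers, (show Commute x z from hxz).orderOf_mul_eq_mul_orderOf_of_coprime
        (by rw [hx, hz]; norm_num), hx, hz]
  have hNle : Subgroup.normalizer ((Subgroup.zpowers x : Subgroup G) : Set G) ≤ C := by
    intro n hn
    have hmem : n * z * n⁻¹ ∈ Subgroup.centralizer ({x} : Set G) := by
      rw [← centralizer_zpowers, Subgroup.mem_centralizer_iff]
      intro w hw
      have hw' : n⁻¹ * w * n ∈ Subgroup.zpowers x := (Subgroup.mem_normalizer_iff''.1 hn w).1 hw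
      have := (Subgroup.mem_centralizer_iff.1 (centralizer_zpowers x ▸ hzC)) _ hw'
      have := congrArg (fun t => n * t * n⁻¹) this
      simpa [mul_assoc] using this
    haveI : IsCyclic (Subgroup.centralizer ({x} : Set G)) := by
      rw [← hgen]; infer_instance
    have hone : ocount (Subgroup.centralizer ({x} : Set G)) 2 = 1 := by
      rw [ocount_cyclic, L.c7 x hx]; rfl
    haveI := (Nat.card_eq_one_iff_unique.1 hone).1
    have o1 : orderOf (⟨_, hmem⟩ : Subgroup.centralizer ({x} : Set G)) = 2 := by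
      rw [Subgroup.orderOf_mk, ← MulAut.conj_apply, MulEquiv.orderOf_eq, hz]
    have o2 : orderOf (⟨_, hzC⟩ : Subgroup.centralizer ({x} : Set G)) = 2 := by
      rw [Subgroup.orderOf_mk, hz]
    have e : n * z * n⁻¹ = z := congrArg
      (fun t : {g : Subgroup.centralizer ({x} : Set G) // orderOf g = 2} => ((t.1 : _) : G))
      (Subsingleton.elim ⟨_, o1⟩ ⟨_, o2⟩)
    exact Subgroup.mem_centralizer_singleton_iff.2 (mul_inv_eq_iff_eq_mul.1 e)
  have h7 : 7 ∣ Nat.card C := hx ▸ Subgroup.orderOf_dvd_natCard C hxC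
  have h49 : ¬ 7 ∣ Nat.card C / 7 := by
    intro h
    have : 7 * 7 ∣ Nat.card C := (Nat.dvd_div_iff_mul_dvd h7).1 h
    exact absurd (this.trans hdvd) (by norm_num)
  obtain ⟨Q, hQ⟩ := zpowers_eq_sylow (G := C) (p := 7) (m := Nat.card C / 7)
    (by rw [pow_one, Nat.mul_div_cancel' h7]) h49 (x := ⟨x, hxC⟩) (by rw [Subgroup.orderOf_mk, hx])
  have hzle : Subgroup.zpowers x ≤ C := Subgroup.zpowers_le.2 hxC
  have hsub : (Subgroup.zpowers (⟨x, hxC⟩ : C)) = (Subgroup.zpowers x).subgroupOf C := by
    ext w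
    rw [Subgroup.mem_subgroupOf, Subgroup.mem_zpowers_iff, Subgroup.mem_zpowers_iff]
    exact exists_congr fun i => ⟨fun e => by rw [← e]; rfl, fun e => Subtype.ext (by simpa using e)⟩
  have hN : Nat.card (Subgroup.normalizer ((Q : Subgroup C) : Set C)) = 42 := by
    rw [← hQ, hsub, ← Subgroup.subgroupOf_normalizer_eq hzle,
      Nat.card_congr (Subgroup.subgroupOfEquivOfLe hNle).toEquiv, hP, L.n7 P]
  have hmul := Small.card_normalizer_mul Q
  rw [hN] at hmul
  have hmod := card_sylow_modEq_one 7 C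
  rw [Nat.ModEq] at hmod
  have hall : ∀ d ∈ Nat.divisors 2688, 570 ≤ d → 42 ∣ d → d / 42 % 7 = 1 → d = 2688 := by decide +kernel
  refine hall _ (Nat.mem_divisors.2 ⟨hdvd, by norm_num⟩) hge ⟨_, hmul.symm⟩ ?_
  rw [← hmul, Nat.mul_div_cancel_left _ (by norm_num)]
  exact hmod

theorem index_bound {n i m : ℕ} (h : n * i = 10200960) (hm : m ∣ i) {K : ℕ} (hK : K ≤ n)
    (hbig : 10200960 < K * m) : False := by
  rcases Nat.eq_zero_or_pos i with rfl | hi
  · omega
  · have h1 : K * m ≤ n * i := Nat.mul_le_mul hK (Nat.le_of_dvd hi hm)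
    omega

theorem fix_fifteen {n i : ℕ} (h : n * i = 10200960) {c : ℤ} (hc : c * c = 196)
    (hle : 1 + c * c + 94 * 94 + 87 * 87 ≤ (n : ℤ)) (h230 : (230 : ℤ) ∣ (i : ℤ) * 94)
    (h231 : (231 : ℤ) ∣ (i : ℤ) * 87) : False := by
  have a1 : 230 ∣ i * 94 := Int.natCast_dvd_natCast.1 (by push_cast; exact h230)
  have a2 : 231 ∣ i * 87 := Int.natCast_dvd_natCast.1 (by push_cast; exact h231)
  rw [hc] at hle
  have b1 : 115 ∣ i := by omega
  have b2 : 77 ∣ i := by omega
  exact index_bound h (Nat.Coprime.mul_dvd_of_dvd_of_dvd (by norm_num) b1 b2) (K := 16602) (by omega)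
    (by norm_num)

theorem fix_nineteen {n i : ℕ} (h : n * i = 10200960) {c : ℤ} (hc : c * c = 324)
    (hle : 1 + c * c + 154 * 154 + 151 * 151 ≤ (n : ℤ)) (h230 : (230 : ℤ) ∣ (i : ℤ) * 154)
    (h231 : (231 : ℤ) ∣ (i : ℤ) * 151) : False := by
  have a1 : 230 ∣ i * 154 := Int.natCast_dvd_natCast.1 (by push_cast; exact h230)
  have a2 : 231 ∣ i * 151 := Int.natCast_dvd_natCast.1 (by push_cast; exact h231)
  rw [hc] at hle
  have b1 : 115 ∣ i := by omega
  have b2 : 231 ∣ i := by omega
  exact index_bound h (Nat.Coprime.mul_dvd_of_dvd_of_dvd (by norm_num) b1 b2) (K := 46842) (by omega)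
    (by norm_num)

theorem fix_eleven (L : Locals G) {g : G} (hg : orderOf g = 2) {n i : ℕ}
    (hn : Nat.card (Subgroup.centralizer ({g} : Set G)) = n) (h : n * i = 10200960)
    {c : ℤ} (hc : c * c = 100) (hle : 1 + c * c + 50 * 50 + 39 * 39 ≤ (n : ℤ))
    (h22 : (22 : ℤ) ∣ (i : ℤ) * 10) (h230 : (230 : ℤ) ∣ (i : ℤ) * 50)
    (h231 : (231 : ℤ) ∣ (i : ℤ) * 39) : False := by
  have a0 : 22 ∣ i * 10 := Int.natCast_dvd_natCast.1 (by push_cast; exact h22)
  have a1 : 230 ∣ i * 50 := Int.natCast_dvd_natCast.1 (by push_cast; exact h230)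
  have a2 : 231 ∣ i * 39 := Int.natCast_dvd_natCast.1 (by push_cast; exact h231)
  rw [hc] at hle
  have b0 : 11 ∣ i := by omega
  have b1 : 23 ∣ i := by omega
  have b2 : 7 ∣ i := by omega
  obtain ⟨k, rfl⟩ : 11 * 23 * 7 ∣ i := Nat.Coprime.mul_dvd_of_dvd_of_dvd (by norm_num)
    (Nat.Coprime.mul_dvd_of_dvd_of_dvd (by norm_num) b0 b1) b2
  have hk : n * k = 5760 := by linarith
  have hn4 : 4122 ≤ n := by omega
  have hk1 : k = 1 := by
    rcases Nat.lt_or_ge k 2 with h2 | h2
    · rcases Nat.eq_zero_or_pos k with rfl | h0 <;> omega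
    · have := Nat.mul_le_mul hn4 h2
      omega
  subst hk1
  haveI : Fact (Nat.Prime 5) := ⟨by norm_num⟩
  obtain ⟨y, hy⟩ := exists_prime_orderOf_dvd_card' (G := Subgroup.centralizer ({g} : Set G)) 5
    (by rw [hn, show n = 5760 by omega]; norm_num)
  rw [← Subgroup.orderOf_coe] at hy
  have hgy : g ∈ Subgroup.centralizer ({(y : G)} : Set G) :=
    Subgroup.mem_centralizer_singleton_iff.2 (Subgroup.mem_centralizer_singleton_iff.1 y.2).symm
  have := Subgroup.orderOf_dvd_natCard _ hgy
  rw [L.c5 _ hy, hg] at this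
  omega

variable {X : Type} [Fintype X] [DecidableEq X] [MulAction G X]

/-- The points fixed by an element. -/
def fixSet (X : Type) [Fintype X] [DecidableEq X] {G : Type u} [Group G] [MulAction G X] (g : G) : Finset X :=
  Finset.univ.filter fun p => g • p = p

theorem mem_fixSet {g : G} {p : X} : p ∈ fixSet X g ↔ g • p = p := by simp [fixSet]

theorem card_fixSet (g : G) : (fixSet X g).card = Nat.card (fixedBy X g) := by
  classical
  rw [Nat.card_eq_fintype_card, fixSet, ← Set.toFinset_card]
  congr 1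
  ext p
  simp

variable [IsPretransitive G X] [FaithfulSMul G X]

theorem card_fix_seven (L : Locals G) {χ a b : IrrCharacter G} (E : Chi22 χ a b) (hX : Fintype.card X = 23)
    {x z : G} (hx : orderOf x = 7) (hz : orderOf z = 2) (hxz : x * z = z * x) : (fixSet X z).card = 7 := by
  have h := permChar_eq (X := X) L E hX z
  rw [E.val7 x z hx hz hxz, ← card_fixSet] at h
  have : ((fixSet X z).card : ℂ) = ((7 : ℕ) : ℂ) := by rw [h]; norm_num
  exact_mod_cast this

/-- An involution fixes at most seven points. -/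
theorem card_fix_le (L : Locals G) {χ a b : IrrCharacter G} (E : Chi22 χ a b) (hX : Fintype.card X = 23)
    {g : G} (hg : orderOf g = 2) : (fixSet X g).card ≤ 7 := by
  classical
  haveI := L.simple
  haveI : Fact (Nat.Prime 5) := ⟨by norm_num⟩
  by_contra hlt
  set f := (fixSet X g).card with hf
  have hc : (χ : G → ℂ) g = (((f : ℤ) - 1 : ℤ) : ℂ) := by
    have h := permChar_eq (X := X) L E hX g
    rw [← card_fixSet, ← hf] at h
    push_cast
    linear_combination -h
  have hgg : g * g = 1 := by rw [← pow_two, ← hg, pow_orderOf_eq_one]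
  obtain ⟨c', hc', h4, -⟩ := M12Uniq.involution_mod_four (DefOne.Order7920.hom_eq_one L.not_prime)
    (IsIrrCharacter.isCharacter χ.2) (irr_one_eq_charDegree χ) hgg
  obtain rfl : c' = (f : ℤ) - 1 := by
    have := hc'.symm.trans hc
    exact_mod_cast this
  rw [show charDegree (χ : G → ℂ) = 22 from E.deg] at h4
  have hf23 : f < 23 := by
    rcases Nat.lt_or_eq_of_le (hX ▸ Finset.card_le_univ (fixSet X g)) with h | h
    · exact h
    exfalso
    have hall : fixSet X g = Finset.univ := Finset.eq_univ_of_card _ (h.trans hX.symm)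
    have : g = 1 := FaithfulSMul.eq_of_smul_eq_smul (α := X) fun p => by
      rw [one_smul]
      exact mem_fixSet.1 (hall ▸ Finset.mem_univ p)
    rw [this, orderOf_one] at hg
    omega
  obtain ⟨A, B, -, -, e1, e2, hle, h22, h230, h231⟩ := E.values_involution L hg hc
  have hf3 : f = 11 ∨ f = 15 ∨ f = 19 := by
    push_cast at h4
    omega
  have hC := Subgroup.card_mul_index (Subgroup.centralizer ({g} : Set G))
  rw [L.card] at hC
  rcases hf3 with h | h | h <;> rw [h] at e1 e2 hle h22 <;> push_cast at e1 e2 hle h22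
  · obtain rfl : A = 50 := by omega
    obtain rfl : B = 39 := by omega
    exact fix_eleven L hg rfl hC (c := 10) (by norm_num) (by norm_num at hle ⊢; exact hle) h22 h230 h231
  · obtain rfl : A = 94 := by omega
    obtain rfl : B = 87 := by omega
    exact fix_fifteen hC (c := 14) (by norm_num) (by norm_num at hle ⊢; exact hle) h230 h231
  · obtain rfl : A = 154 := by omega
    obtain rfl : B = 151 := by omega
    exact fix_nineteen hC (c := 18) (by norm_num) (by norm_num at hle ⊢; exact hle) h230 h231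

end Cfsg.Agent.M23Uniq
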