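import Cfsg.Agent.Lib.M23Uniq.StdLocals

/-!
The same numbers of elements of equal order as in the group of degree 23 give the local data.
-/

set_option linter.unusedSectionVars false
set_option linter.style.haveILetI false
set_option maxRecDepth 100000

namespace Cfsg.Agent.M23Uniq

open Cfsg

universe u

variable {G : Type u} [Group G] [Finite G]

theorem ocount_prime_eq {p m v : ℕ} [Fact p.Prime] (hcard : Nat.card G = p * m) (hm : ¬ p ∣ m)
    (P : Sylow p G) (hv : Nat.card (Subgroup.normalizer ((P : Subgroup G) : Set G)) = v) :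
    v * ocount G p = p * m * (p - 1) := by
  rw [ocount, M12Uniq.count_prime hcard hm, ← hv, ← mul_assoc, Small.card_normalizer_mul, hcard]

/-- All centralisers of elements of order `p` are alike when `p` divides the order once. -/
theorem centralizer_equiv {p m : ℕ} [Fact p.Prime] (hcard : Nat.card G = p ^ 1 * m) (hm : ¬ p ∣ m)
    {x y : G} (hx : orderOf x = p) (hy : orderOf y = p) :
    Nonempty (Subgroup.centralizer ({x} : Set G) ≃* Subgroup.centralizer ({y} : Set G)) := by
  obtain ⟨P, hP⟩ := zpowers_eq_sylow hcard hm hx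
  obtain ⟨Q, hQ⟩ := zpowers_eq_sylow hcard hm hy
  obtain ⟨g, hg⟩ := MulAction.exists_smul_eq G P Q
  have hmem : ∀ z, z ∈ Subgroup.zpowers x ↔ g * z * g⁻¹ ∈ Subgroup.zpowers y := by
    intro z
    rw [hP, hQ, ← hg]
    show _ ↔ g * z * g⁻¹ ∈ ((g • P : Sylow p G) : Subgroup G)
    rw [Sylow.coe_subgroup_smul, Subgroup.mem_pointwise_smul_iff_inv_smul_mem]
    simp [MulAut.smul_def, mul_assoc]
  have hc : (Subgroup.centralizer ({x} : Set G)).map (MulAut.conj g).toMonoidHom = Subgroup.centralizer {y} := by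
    ext z
    rw [Subgroup.mem_map_equiv, MulAut.conj_symm_apply, ← centralizer_zpowers x, ← centralizer_zpowers y,
      Subgroup.mem_centralizer_iff, Subgroup.mem_centralizer_iff]
    constructor
    · intro h w hw
      have h' := h (g⁻¹ * w * g) ((hmem _).2 (by simpa [mul_assoc] using hw))
      have := congrArg (fun t => g * t * g⁻¹) h'
      simpa [mul_assoc] using this
    · intro h w hw
      have h' := h _ ((hmem w).1 hw)
      have := congrArg (fun t => g⁻¹ * t * g) h'
      simpa [mul_assoc] using this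
  exact ⟨(Subgroup.equivMapOfInjective _ (MulAut.conj g).toMonoidHom (MulEquiv.injective _)).trans
    (MulEquiv.subgroupCongr hc)⟩

theorem ocount_fourteen
    (h : ∀ x : G, orderOf x = 7 → Nat.card (Subgroup.centralizer ({x} : Set G)) = 14 ∧
      IsCyclic (Subgroup.centralizer ({x} : Set G))) : ocount G 14 = ocount G 7 := by
  refine Nat.card_eq_of_bijective (fun g => ⟨g.1 ^ 2, by
    rw [orderOf_pow, g.2]; rfl⟩) ⟨fun a b e => ?_, fun x => ?_⟩
  · have e' : a.1 ^ 2 = b.1 ^ 2 := congrArg Subtype.val e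
    have hx : orderOf (a.1 ^ 2) = 7 := by rw [orderOf_pow, a.2]; rfl
    obtain ⟨hc, hcyc⟩ := h _ hx
    set C := Subgroup.centralizer ({a.1 ^ 2} : Set G)
    have ha : a.1 ^ 7 ∈ C := Subgroup.mem_centralizer_singleton_iff.2
      ((Commute.refl a.1).pow_pow 7 2).eq
    have hb : b.1 ^ 7 ∈ C := Subgroup.mem_centralizer_singleton_iff.2
      (by rw [e']; exact ((Commute.refl b.1).pow_pow 7 2).eq)
    have hone : ocount C 2 = 1 := by
      rw [ocount_cyclic, hc]; rfl
    have oa : orderOf (⟨_, ha⟩ : C) = 2 := by rw [Subgroup.orderOf_mk, orderOf_pow, a.2]; rfl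
    have ob : orderOf (⟨_, hb⟩ : C) = 2 := by rw [Subgroup.orderOf_mk, orderOf_pow, b.2]; rfl
    haveI := (Nat.card_eq_one_iff_unique.1 hone).1
    have e7 : a.1 ^ 7 = b.1 ^ 7 := congrArg (fun t : {g : C // orderOf g = 2} => ((t.1 : C) : G))
      (Subsingleton.elim ⟨_, oa⟩ ⟨_, ob⟩)
    refine Subtype.ext ?_
    calc a.1 = a.1 ^ (14 + 1) := by rw [pow_succ, show a.1 ^ 14 = 1 from orderOf_dvd_iff_pow_eq_one.1 (dvd_of_eq a.2), one_mul]
      _ = (a.1 ^ 2) ^ 4 * a.1 ^ 7 := by rw [← pow_mul, ← pow_add]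
      _ = (b.1 ^ 2) ^ 4 * b.1 ^ 7 := by rw [e', e7]
      _ = b.1 ^ (14 + 1) := by rw [← pow_mul, ← pow_add]
      _ = b.1 := by rw [pow_succ, show b.1 ^ 14 = 1 from orderOf_dvd_iff_pow_eq_one.1 (dvd_of_eq b.2), one_mul]
  · obtain ⟨hc, -⟩ := h x.1 x.2
    haveI : Fact (Nat.Prime 2) := ⟨Nat.prime_two⟩
    obtain ⟨t, ht⟩ := exists_prime_orderOf_dvd_card' (G := Subgroup.centralizer ({x.1} : Set G)) 2
      (by rw [hc]; norm_num)
    rw [← Subgroup.orderOf_coe] at ht
    have hcm : Commute (x.1 ^ 4) (t : G) :=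
      Commute.pow_left (Commute.symm (Subgroup.mem_centralizer_singleton_iff.1 t.2)) 4
    refine ⟨⟨x.1 ^ 4 * t, ?_⟩, Subtype.ext ?_⟩
    · rw [hcm.orderOf_mul_eq_mul_orderOf_of_coprime] <;> rw [orderOf_pow, x.2, ht] <;> rfl
    · show (x.1 ^ 4 * (t : G)) ^ 2 = x.1
      rw [hcm.mul_pow, ← pow_mul, show (t : G) ^ 2 = 1 from ht ▸ pow_orderOf_eq_one (t : G), mul_one,
        show x.1 ^ (4 * 2) = x.1 ^ (7 + 1) from rfl, pow_succ,
        show x.1 ^ 7 = 1 from orderOf_dvd_iff_pow_eq_one.1 (dvd_of_eq x.2), one_mul]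

/-! ### The standard group -/

/-- The counts of the standard group. -/
noncomputable abbrev stdCount (n : ℕ) : ℕ := ocount ↥Spor.M23 n

set_option quotPrecheck false in
local notation "Cm" => stdCount

theorem std_card : Nat.card ↥Spor.M23 = 10200960 := Golay.card_sporM23

theorem std_mod {p v c : ℕ} [Fact p.Prime] (h : StdPrime p v c) (n : ℕ) :
    Cm n % p = (if n ∣ c then n.totient else 0) % p := by
  obtain ⟨x, hx, hc, hcyc, -⟩ := h
  haveI := hcyc
  have h' := ocount_modEq hx n
  rw [ocount_cyclic (G := Subgroup.centralizer ({x} : Set ↥Spor.M23)), hc] at h'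
  exact h'

theorem std_prime {p v c m : ℕ} [Fact p.Prime] (h : StdPrime p v c) (hcard : p * m = 10200960) (hm : ¬ p ∣ m) :
    v * Cm p = p * m * (p - 1) := by
  obtain ⟨x, hx, -, -, hv⟩ := h
  have hM : Nat.card ↥Spor.M23 = p * m := std_card.trans hcard.symm
  obtain ⟨P, hP⟩ := zpowers_eq_sylow (by rwa [pow_one]) hm hx
  exact ocount_prime_eq hM hm P (hP ▸ hv)

theorem std_fourteen : Cm 14 = Cm 7 := by
  haveI : Fact (Nat.Prime 7) := ⟨by norm_num⟩
  obtain ⟨x, hx, hc, hcyc, -⟩ := std7
  refine ocount_fourteen fun y hy => ?_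
  obtain ⟨e⟩ := centralizer_equiv (m := 1457280) (by rw [std_card]; norm_num) (by norm_num) hx hy
  exact ⟨(Nat.card_congr e.toEquiv).symm.trans hc,
    isCyclic_of_surjective e.toMonoidHom e.surjective⟩

/-! ### A group with the same counts -/

section
variable (hG : Nat.card G = 10200960)
  (hto : ∀ n, 0 < ocount G n → ∃ m, ocount G n = Cm m)
  (hfrom : ∀ m, 0 < Cm m → ∃ n, Cm m = ocount G n)

include hG hto

theorem ocount_pos {p : ℕ} [Fact p.Prime] (hp : p ∣ 10200960) : 0 < ocount G p := by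
  obtain ⟨x, hx⟩ := exists_prime_orderOf_dvd_card' (G := G) p (hG.symm ▸ hp)
  exact Nat.card_pos_iff.2 ⟨⟨⟨x, hx⟩⟩, inferInstance⟩

theorem prime_mod {p m : ℕ} [Fact p.Prime] (hcard : p * m = 10200960) (hm : ¬ p ∣ m) :
    ocount G p % p = p - 1 := by
  rw [ocount, M12Uniq.count_prime (hG.trans hcard.symm) hm, Nat.mul_mod, card_sylow_modEq_one p G,
    ← Nat.mul_mod, one_mul, Nat.mod_eq_of_lt (Nat.sub_lt (Fact.out : p.Prime).pos one_pos)]

theorem normalizer_of_counts {p m v c : ℕ} [Fact p.Prime] (hs : StdPrime p v c) (hcard : p * m = 10200960)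
    (hm : ¬ p ∣ m) (hdec : ∀ d ∈ c.divisors, d.totient % p = p - 1 → Cm d = Cm p) (P : Sylow p G) :
    Nat.card (Subgroup.normalizer ((P : Subgroup G) : Set G)) = v := by
  obtain ⟨d, hd⟩ := hto p (ocount_pos hG hto ⟨m, hcard.symm⟩)
  have h1 := prime_mod hG hto hcard hm
  rw [hd, std_mod hs] at h1
  have hp := (Fact.out : p.Prime).two_le
  have hc0 : c ≠ 0 := by
    obtain ⟨x, -, hc, -⟩ := hs
    exact hc ▸ Nat.card_pos.ne'
  split_ifs at h1 with hdc
  swap
  · rw [Nat.zero_mod] at h1; omega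
  rw [hdec d (Nat.mem_divisors.2 ⟨hdc, hc0⟩) h1] at hd
  have h2 := ocount_prime_eq (hG.trans hcard.symm) hm P rfl
  have h3 := std_prime hs hcard hm
  rw [← hd, ← h2] at h3
  exact (Nat.eq_of_mul_eq_mul_right (ocount_pos hG hto ⟨m, hcard.symm⟩) h3).symm

theorem n23_eq [Fact (Nat.Prime 23)] (P : Sylow 23 G) :
    Nat.card (Subgroup.normalizer ((P : Subgroup G) : Set G)) = 253 :=
  normalizer_of_counts hG hto std23 (m := 443520) (by norm_num) (by norm_num) (fun d hd h => by
    rw [show (23 : ℕ).divisors = {1, 23} by decide] at hd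
    simp only [Finset.mem_insert, Finset.mem_singleton] at hd
    rcases hd with rfl | rfl
    · norm_num at h
    · rfl) P

theorem n11_eq [Fact (Nat.Prime 11)] (P : Sylow 11 G) :
    Nat.card (Subgroup.normalizer ((P : Subgroup G) : Set G)) = 55 :=
  normalizer_of_counts hG hto std11 (m := 927360) (by norm_num) (by norm_num) (fun d hd h => by
    rw [show (11 : ℕ).divisors = {1, 11} by decide] at hd
    simp only [Finset.mem_insert, Finset.mem_singleton] at hd
    rcases hd with rfl | rfl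
    · norm_num at h
    · rfl) P

theorem n7_eq [Fact (Nat.Prime 7)] (P : Sylow 7 G) :
    Nat.card (Subgroup.normalizer ((P : Subgroup G) : Set G)) = 42 :=
  normalizer_of_counts hG hto std7 (m := 1457280) (by norm_num) (by norm_num) (fun d hd h => by
    rw [show (14 : ℕ).divisors = {1, 2, 7, 14} by decide] at hd
    simp only [Finset.mem_insert, Finset.mem_singleton] at hd
    rcases hd with rfl | rfl | rfl | rfl
    · norm_num at h
    · norm_num at h
    · rfl
    · exact std_fourteen) P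

theorem n5_eq [Fact (Nat.Prime 5)] (P : Sylow 5 G) :
    Nat.card (Subgroup.normalizer ((P : Subgroup G) : Set G)) = 60 :=
  normalizer_of_counts hG hto std5 (m := 2040192) (by norm_num) (by norm_num) (fun d hd h => by
    rw [show (15 : ℕ).divisors = {1, 3, 5, 15} by decide] at hd
    simp only [Finset.mem_insert, Finset.mem_singleton] at hd
    rcases hd with rfl | rfl | rfl | rfl
    · norm_num at h
    · rw [Nat.totient_prime Nat.prime_three] at h; norm_num at h
    · rfl
    · rw [show Nat.totient 15 = 8 by decide] at h; norm_num at h) P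

/-- No element of prime order `p` fixes a nontrivial element of a normal subgroup of coprime order. -/
theorem card_mod_of_normal {p m v : ℕ} [Fact p.Prime] (hcard : p * m = 10200960) (hm : ¬ p ∣ m)
    (hv : ∀ P : Sylow p G, Nat.card (Subgroup.normalizer ((P : Subgroup G) : Set G)) = v)
    (N : Subgroup G) [N.Normal] (hcop : Nat.Coprime v (Nat.card N)) : Nat.card N % p = 1 := by
  obtain ⟨x, hx⟩ := exists_prime_orderOf_dvd_card' (G := G) p (hG.symm ▸ Dvd.intro m hcard)
  obtain ⟨P, hP⟩ := zpowers_eq_sylow (by rw [pow_one]; exact hG.trans hcard.symm) hm hx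
  have h := fixed_modEq hx (fun g : G => g ∈ N) fun a g _ hg => (inferInstance : N.Normal).conj_mem g hg a
  haveI : Nonempty {g : G // g ∈ N ∧ x * g = g * x} := ⟨⟨1, N.one_mem, by simp⟩⟩
  haveI : Subsingleton {g : G // g ∈ N ∧ x * g = g * x} := by
    suffices h1 : ∀ g : {g : G // g ∈ N ∧ x * g = g * x}, g.1 = 1 from
      ⟨fun a b => Subtype.ext ((h1 a).trans (h1 b).symm)⟩
    intro g
    have hgc : g.1 ∈ Subgroup.normalizer ((P : Subgroup G) : Set G) := by
      rw [← hP]
      exact Small.centralizer_le_normalizer _ (centralizer_zpowers x ▸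
        Subgroup.mem_centralizer_singleton_iff.2 g.2.2.symm)
    refine orderOf_eq_one_iff.1 (Nat.eq_one_of_dvd_coprimes hcop ?_ (Subgroup.orderOf_dvd_natCard _ g.2.1))
    rw [← hv P]
    exact Subgroup.orderOf_dvd_natCard _ hgc
  rw [show Nat.card {g : G // g ∈ N ∧ x * g = g * x} = 1 from
    Nat.card_eq_one_iff_unique.2 ⟨inferInstance, inferInstance⟩] at h
  exact Eq.trans h (Nat.one_mod_eq_one.2 (Fact.out : p.Prime).ne_one)

theorem simple_of_counts : IsSimpleGroup G := by
  haveI : Fact (Nat.Prime 23) := ⟨by norm_num⟩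
  haveI : Fact (Nat.Prime 11) := ⟨by norm_num⟩
  haveI : Fact (Nat.Prime 7) := ⟨by norm_num⟩
  haveI : Fact (Nat.Prime 5) := ⟨by norm_num⟩
  haveI : Nontrivial G := Finite.one_lt_card_iff_nontrivial.1 (by rw [hG]; norm_num)
  refine ⟨fun N hN => ?_⟩
  haveI := hN
  rw [or_iff_not_imp_left]
  intro hbot
  have hN1 : Nat.card N ≠ 1 := fun h => hbot (Subgroup.card_eq_one.1 h)
  have hmul := N.index_mul_card
  rw [hG] at hmul
  have i23 := index_dvd_normalizer (p := 23) (m := 443520) (by rw [hG]; norm_num) (by norm_num) (n23_eq hG hto) N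
  have i11 := index_dvd_normalizer (p := 11) (m := 927360) (by rw [hG]; norm_num) (by norm_num) (n11_eq hG hto) N
  have i7 := index_dvd_normalizer (p := 7) (m := 1457280) (by rw [hG]; norm_num) (by norm_num) (n7_eq hG hto) N
  have i5 := index_dvd_normalizer (p := 5) (m := 2040192) (by rw [hG]; norm_num) (by norm_num) (n5_eq hG hto) N
  by_cases h23 : 23 ∣ Nat.card N
  · have h := i23 h23
    have hi : N.index ∈ Nat.divisors 253 := Nat.mem_divisors.2 ⟨h, by norm_num⟩
    rw [show (253 : ℕ).divisors = {1, 11, 23, 253} by decide +kernel] at hi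
    simp only [Finset.mem_insert, Finset.mem_singleton] at hi
    rcases hi with r | r | r | r <;> rw [r] at hmul
    · exact Subgroup.index_eq_one.1 r
    · exfalso
      have h5 := i5 (by omega)
      rw [r] at h5
      norm_num at h5
    · omega
    · omega
  · exfalso
    have hne : ∀ q v : ℕ, ¬ 23 ∣ v → (q ∣ Nat.card N → N.index ∣ v) → ¬ q ∣ Nat.card N := by
      intro q v hv h hq
      refine hv (dvd_trans ?_ (h hq))
      exact ((Fact.out : Nat.Prime 23).dvd_mul.1 (hmul.symm ▸ (by norm_num : 23 ∣ 10200960))).resolve_right h23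
    have h11 := hne 11 55 (by norm_num) i11
    have h7 := hne 7 42 (by norm_num) i7
    have h5 := hne 5 60 (by norm_num) i5
    have hcop : Nat.Coprime (Nat.card N) (23 * 11 * 7 * 5) := by
      refine Nat.Coprime.mul_right (Nat.Coprime.mul_right (Nat.Coprime.mul_right ?_ ?_) ?_) ?_ <;>
        exact Nat.Coprime.symm ((Nat.Prime.coprime_iff_not_dvd (by norm_num)).2 (by assumption))
    have hd : Nat.card N ∣ 1152 := hcop.dvd_of_dvd_mul_right ⟨N.index, by rw [mul_comm (Nat.card N)]; omega⟩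
    have m23 := card_mod_of_normal hG hto (p := 23) (m := 443520) (by norm_num) (by norm_num) (n23_eq hG hto) N
      ((Nat.Coprime.coprime_dvd_right hd (by norm_num : Nat.Coprime 253 1152)))
    have m11 := card_mod_of_normal hG hto (p := 11) (m := 927360) (by norm_num) (by norm_num) (n11_eq hG hto) N
      ((Nat.Coprime.coprime_dvd_right hd (by norm_num : Nat.Coprime 55 1152)))
    have hall : ∀ d ∈ Nat.divisors 1152, d % 23 = 1 → d % 11 = 1 → d = 1 := by decide +kernel
    exact hN1 (hall _ (Nat.mem_divisors.2 ⟨hd, by norm_num⟩) m23 m11)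

include hfrom

theorem locals_of_counts : Locals G := by
  haveI : Fact (Nat.Prime 23) := ⟨by norm_num⟩
  haveI : Fact (Nat.Prime 11) := ⟨by norm_num⟩
  haveI : Fact (Nat.Prime 7) := ⟨by norm_num⟩
  haveI : Fact (Nat.Prime 5) := ⟨by norm_num⟩
  haveI : Fact (Nat.Prime 2) := ⟨by norm_num⟩
  haveI hS := simple_of_counts hG hto
  have hnp : ¬ (Nat.card G).Prime := by rw [hG]; norm_num
  have hcomm := Small.not_comm_of_card hnp
  have h2 : ocount G 2 = Cm 2 := by
    obtain ⟨d, hd⟩ := hto 2 (ocount_pos hG hto (by norm_num))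
    have hodd := ocount_two_odd (G := G) (by rw [hG]; norm_num)
    have hd0 : 0 < d := Nat.pos_of_ne_zero fun h0 => by
      have hp := ocount_pos hG hto (p := 2) (by norm_num)
      rw [hd, h0] at hp
      obtain ⟨⟨g, hg⟩⟩ := (Nat.card_pos_iff.1 hp).1
      exact (orderOf_pos g).ne' hg
    rcases (show d = 1 ∨ d = 2 ∨ 2 < d by omega) with rfl | rfl | h
    · exfalso
      rw [stdCount, ocount_one] at hd
      obtain ⟨hsub, ⟨⟨t, ht⟩⟩⟩ := Nat.card_eq_one_iff_unique.1 hd
      have htc : t ∈ Subgroup.center G := Subgroup.mem_center_iff.2 fun g => by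
        have ho : orderOf (g * t * g⁻¹) = 2 := by rw [← MulAut.conj_apply, MulEquiv.orderOf_eq, ht]
        have := congrArg Subtype.val (hsub.elim ⟨_, ho⟩ ⟨t, ht⟩)
        exact mul_inv_eq_iff_eq_mul.1 this
      rcases (inferInstance : (Subgroup.center G).Normal).eq_bot_or_eq_top with hc | hc
      · rw [hc, Subgroup.mem_bot] at htc
        rw [htc, orderOf_one] at ht
        norm_num at ht
      · exact hcomm ⟨⟨fun a b => Subgroup.mem_center_iff.1 (hc ▸ Subgroup.mem_top b) a⟩⟩
    · exact hd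
    · exfalso
      have := two_dvd_ocount (G := ↥Spor.M23) h
      rw [show ocount ↥Spor.M23 d = stdCount d from rfl, ← hd] at this
      omega
  have key : ∀ {p m v : ℕ} [Fact p.Prime], Nat.card G = p ^ 1 * m → ¬ p ∣ m →
      (∀ P : Sylow p G, Nat.card (Subgroup.normalizer ((P : Subgroup G) : Set G)) = v) →
      ∀ x : G, orderOf x = p →
        p ∣ Nat.card (Subgroup.centralizer ({x} : Set G)) ∧ Nat.card (Subgroup.centralizer ({x} : Set G)) ∣ v ∧
          v ∣ Nat.card (Subgroup.centralizer ({x} : Set G)) * (p - 1) ∧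
          Nat.card (Subgroup.centralizer ({x} : Set G)) ≠ v := by
    intro p m v _ hcard hm hv x hx
    obtain ⟨P, hP⟩ := zpowers_eq_sylow hcard hm hx
    have hPc : Nat.card (P : Subgroup G) = p := by rw [← hP, Nat.card_zpowers, hx]
    rw [← centralizer_zpowers x, hP]
    refine ⟨?_, ?_, hv P ▸ Small.card_normalizer_dvd _ hPc, hv P ▸ Small.centralizer_ne_normalizer hnp
      (hcard ▸ Dvd.intro m (by rw [pow_one])) P⟩
    · conv_lhs => rw [← hPc]
      exact Subgroup.card_dvd_of_le (Small.le_centralizer_self _ hPc)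
    · exact hv P ▸ Subgroup.card_dvd_of_le (Small.centralizer_le_normalizer _)
  refine
    { card := hG
      simple := hS
      n23 := n23_eq hG hto
      n11 := n11_eq hG hto
      n7 := n7_eq hG hto
      n5 := n5_eq hG hto
      c23 := fun x hx => ?_
      c11 := fun x hx => ?_
      c7 := fun x hx => ?_
      c5 := fun x hx => ?_ }
  · obtain ⟨a, b, -, d⟩ := key (m := 443520) (by rw [hG]; norm_num) (by norm_num) (n23_eq hG hto) x hx
    have hall : ∀ t ∈ Nat.divisors 253, 23 ∣ t → t ≠ 253 → t = 23 := by decide +kernel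
    exact hall _ (Nat.mem_divisors.2 ⟨b, by norm_num⟩) a d
  · obtain ⟨a, b, -, d⟩ := key (m := 927360) (by rw [hG]; norm_num) (by norm_num) (n11_eq hG hto) x hx
    have hall : ∀ t ∈ Nat.divisors 55, 11 ∣ t → t ≠ 55 → t = 11 := by decide +kernel
    exact hall _ (Nat.mem_divisors.2 ⟨b, by norm_num⟩) a d
  · obtain ⟨a, b, -, d⟩ := key (m := 1457280) (by rw [hG]; norm_num) (by norm_num) (n7_eq hG hto) x hx
    have h := ocount_modEq hx 2
    rw [h2, Nat.ModEq, std_mod std7] at h
    have he : 2 ∣ Nat.card (Subgroup.centralizer ({x} : Set G)) := by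
      by_contra hne
      have h0 : ocount (Subgroup.centralizer ({x} : Set G)) 2 = 0 :=
        Nat.card_eq_zero.2 (Or.inl ⟨fun g => hne (g.2 ▸ orderOf_dvd_natCard g.1)⟩)
      rw [h0] at h
      norm_num at h
    have hall : ∀ t ∈ Nat.divisors 42, 7 ∣ t → t ≠ 42 → 2 ∣ t → t = 14 := by decide +kernel
    exact hall _ (Nat.mem_divisors.2 ⟨b, by norm_num⟩) a d he
  · obtain ⟨a, b, e, d⟩ := key (m := 2040192) (by rw [hG]; norm_num) (by norm_num) (n5_eq hG hto) x hx
    have h := ocount_modEq hx 2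
    rw [h2, Nat.ModEq, std_mod std5] at h
    set C := Subgroup.centralizer ({x} : Set G)
    have hall : ∀ t ∈ Nat.divisors 60, 5 ∣ t → t ≠ 60 → 60 ∣ t * (5 - 1) → t = 15 ∨ t = 30 := by decide +kernel
    rcases hall _ (Nat.mem_divisors.2 ⟨b, by norm_num⟩) a d e with hC | hC
    · exact hC
    exfalso
    have hxC : x ∈ C := Subgroup.mem_centralizer_singleton_iff.2 rfl
    have hC2 : Nat.card C = 2 * 15 := hC
    rw [ocount, M12Uniq.count_prime hC2 (by norm_num)] at h
    obtain ⟨Q⟩ : Nonempty (Sylow 2 C) := inferInstance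
    have hQ : Nat.card (Q : Subgroup C) = 2 := Small.sylow_card (k := 1) (by rw [pow_one]; exact hC2) (by norm_num) Q
    have hmul := Small.card_normalizer_mul Q
    rw [hC] at hmul
    have hxN : (⟨x, hxC⟩ : C) ∈ Subgroup.normalizer ((Q : Subgroup C) : Set C) :=
      Small.centralizer_le_normalizer _ (Subgroup.mem_centralizer_iff.2 fun z _ =>
        Subtype.ext (Subgroup.mem_centralizer_singleton_iff.1 z.2))
    have h5 := Subgroup.orderOf_dvd_natCard _ hxN
    rw [Subgroup.orderOf_mk, hx] at h5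
    have h2N : 2 ∣ Nat.card (Subgroup.normalizer ((Q : Subgroup C) : Set C)) :=
      hQ.symm.dvd.trans (Subgroup.card_dvd_of_le Subgroup.le_normalizer)
    obtain ⟨k, hk⟩ := Nat.Coprime.mul_dvd_of_dvd_of_dvd (by norm_num : Nat.Coprime 2 5) h2N h5
    rw [hk] at hmul
    have hdvd : Nat.card (Sylow 2 C) ∣ 3 := ⟨k, by linarith [hmul]⟩
    rcases (Nat.dvd_prime Nat.prime_three).1 hdvd with r | r <;> rw [r] at h <;> norm_num at h

end

end Cfsg.Agent.M23Uniq
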