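import Cfsg.Agent.Lib.M23Uniq.FixedSets
import Cfsg.Agent.Lib.M23Uniq.SameCounts
import Cfsg.Agent.Lib.Steiner.Std23

/-!
A simple group of order 10200960 with the local data is the automorphism group of the S(4,7,23).
-/

set_option linter.unusedSectionVars false
set_option linter.style.haveILetI false

namespace Cfsg.Agent.M23Uniq

open Cfsg MulAction
open scoped Pointwise

universe u

variable {G : Type u} [Group G] [Fintype G]
variable {X : Type} [Fintype X] [DecidableEq X] [MulAction G X] [FaithfulSMul G X]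

theorem fixSet_conj (g z : G) : fixSet X (g * z * g⁻¹) = (fixSet X z).image (fun p => g • p) := by
  ext p
  rw [mem_fixSet, Finset.mem_image]
  constructor
  · intro h
    refine ⟨g⁻¹ • p, mem_fixSet.2 ?_, smul_inv_smul g p⟩
    rw [mul_smul, mul_smul] at h
    exact (eq_inv_smul_iff).2 h
  · rintro ⟨q, hq, rfl⟩
    rw [mul_smul, mul_smul, inv_smul_smul, mem_fixSet.1 hq]

/-- The stabiliser of four points has order 48. -/
theorem card_fixer4 (L : Locals G) [IsMultiplyPretransitive G X 4] (hX : Fintype.card X = 23)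
    (e : Fin 4 ↪ X) : Nat.card (stabilizer G e) = 48 := by
  have h := Subgroup.card_mul_index (stabilizer G e)
  rw [index_stabilizer_of_transitive, L.card, Nat.card_eq_fintype_card (α := Fin 4 ↪ X),
    Fintype.card_embedding_eq, hX, Fintype.card_fin, show Nat.descFactorial 23 4 = 212520 by decide] at h
  omega

theorem divisor_check : ∀ n ∈ Nat.divisors 48, n % 7 = 2 → n ∣ 2688 → 2688 / n ∣ 5040 → n = 16 := by
  decide +kernel

/-- Four points lie in at most one conjugate of the fixed set of the chosen involution. -/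
theorem fixer_involution_fix (L : Locals G) [IsPretransitive G X] [IsMultiplyPretransitive G X 4]
    {χ a b : IrrCharacter G} (E : Chi22 χ a b) (hX : Fintype.card X = 23)
    {x z : G} (hx : orderOf x = 7) (hz : orderOf z = 2) (hxz : x * z = z * x)
    (e : Fin 4 ↪ X) (he : ∀ i, e i ∈ fixSet X z) {g : G} (hg : orderOf g = 2)
    (hge : ∀ i, g • e i = e i) : ∀ p ∈ fixSet X z, g • p = p := by
  classical
  haveI : Fact (Nat.Prime 7) := ⟨by norm_num⟩
  haveI : Fact (Nat.Prime 2) := ⟨by norm_num⟩
  set F := fixSet X z with hF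
  have hF7 : F.card = 7 := card_fix_seven L E hX hx hz hxz
  set H := stabilizer G e with hH
  have hH48 : Nat.card H = 48 := card_fixer4 L hX e
  have hmemH : ∀ {h : G}, (∀ i, h • e i = e i) → h ∈ H := fun hh =>
    mem_stabilizer_iff.2 (Function.Embedding.ext hh)
  have hHmem : ∀ {h : G}, h ∈ H → ∀ i, h • e i = e i := fun hh i =>
    congrArg (fun f : Fin 4 ↪ X => f i) (mem_stabilizer_iff.1 hh)
  set C := Subgroup.centralizer ({z} : Set G) with hC
  have hC2688 : Nat.card C = 2688 := centralizer_card L E hx hz hxz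
  have hCF : ∀ c ∈ C, ∀ p ∈ F, c • p ∈ F := by
    intro c hc p hp
    rw [hF, mem_fixSet] at hp ⊢
    rw [← mul_smul, ← Subgroup.mem_centralizer_singleton_iff.1 hc, mul_smul, hp]
  -- the action of the centralizer on the fixed set
  let r : C →* Equiv.Perm {p // p ∈ F} :=
    { toFun := fun c =>
        { toFun := fun p => ⟨(c : G) • (p : X), hCF _ c.2 _ p.2⟩
          invFun := fun p => ⟨((c⁻¹ : C) : G) • (p : X), hCF _ (c⁻¹ : C).2 _ p.2⟩
          left_inv := fun p => Subtype.ext (inv_smul_smul (c : G) (p : X))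
          right_inv := fun p => Subtype.ext (smul_inv_smul (c : G) (p : X)) }
      map_one' := Equiv.ext fun p => Subtype.ext (one_smul G (p : X))
      map_mul' := fun c d => Equiv.ext fun p => Subtype.ext (mul_smul (c : G) (d : G) (p : X)) }
  set K : Subgroup G := r.ker.map C.subtype with hK
  have hKmem : ∀ {k : G}, k ∈ K ↔ k ∈ C ∧ ∀ p ∈ F, k • p = p := by
    intro k
    constructor
    · rintro ⟨c, hc, rfl⟩
      refine ⟨c.2, fun p hp => ?_⟩
      exact congrArg Subtype.val (Equiv.ext_iff.1 (MonoidHom.mem_ker.1 hc) ⟨p, hp⟩)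
    · rintro ⟨h1, h2⟩
      exact ⟨⟨k, h1⟩, MonoidHom.mem_ker.2 (Equiv.ext fun p => Subtype.ext (h2 _ p.2)), rfl⟩
  have hKH : K ≤ H := fun k hk => hmemH fun i => (hKmem.1 hk).2 _ (he i)
  have hzK : z ∈ K := hKmem.2 ⟨Subgroup.mem_centralizer_singleton_iff.2 rfl, fun p hp => mem_fixSet.1 hp⟩
  have hK16 : Nat.card K = 16 := by
    have hdH : Nat.card K ∣ 48 := hH48 ▸ Subgroup.card_dvd_of_le hKH
    have hKc : Nat.card K = Nat.card r.ker := Subgroup.card_map_of_injective C.subtype_injective
    have hmul := Subgroup.card_mul_index r.ker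
    rw [hC2688, ← hKc] at hmul
    have hidx : r.ker.index ∣ 5040 := by
      rw [Subgroup.index_ker]
      refine (Subgroup.card_subgroup_dvd_card _).trans ?_
      rw [Nat.card_perm, Nat.card_eq_fintype_card, Fintype.card_coe, hF7]
      decide
    have hmod : Nat.card K % 7 = 2 := by
      have hq : ∀ a k : G, a ∈ Subgroup.zpowers x → k ∈ K → a * k * a⁻¹ ∈ K := by
        intro a k ha hk
        have haC : a ∈ C := Subgroup.zpowers_le.2 (Subgroup.mem_centralizer_singleton_iff.2 hxz) ha
        obtain ⟨c, hc, rfl⟩ := hk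
        refine ⟨⟨a, haC⟩ * c * ⟨a, haC⟩⁻¹, ?_, rfl⟩
        exact (MonoidHom.normal_ker r).conj_mem c hc _
      have h := fixed_modEq hx (fun k : G => k ∈ K) hq
      rw [Nat.ModEq] at h
      have hfix : Nat.card {k : G // k ∈ K ∧ x * k = k * x} = 2 := by
        rw [Nat.card_congr (Equiv.subtypeEquivRight (q := fun k => k ∈ K ⊓ Subgroup.centralizer ({x} : Set G))
          fun k => by rw [Subgroup.mem_inf, Subgroup.mem_centralizer_singleton_iff]; exact and_congr_right' eq_comm)]
        have h1 : Nat.card ↥(K ⊓ Subgroup.centralizer ({x} : Set G)) ∣ 2 := by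
          have a1 := (Subgroup.card_dvd_of_le (inf_le_left : K ⊓ Subgroup.centralizer ({x} : Set G) ≤ K)).trans hdH
          have a2 := Subgroup.card_dvd_of_le (inf_le_right : K ⊓ Subgroup.centralizer ({x} : Set G) ≤ _)
          rw [L.c7 x hx] at a2
          exact Nat.dvd_gcd a1 a2
        refine ((Nat.dvd_prime Nat.prime_two).1 h1).resolve_left fun h1 => ?_
        have hzx : z ∈ K ⊓ Subgroup.centralizer ({x} : Set G) :=
          ⟨hzK, Subgroup.mem_centralizer_singleton_iff.2 hxz.symm⟩
        rw [Subgroup.card_eq_one.1 h1, Subgroup.mem_bot] at hzx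
        rw [hzx, orderOf_one] at hz
        omega
      rw [hfix] at h
      exact h
    refine divisor_check _ (Nat.mem_divisors.2 ⟨hdH, by norm_num⟩) hmod ⟨_, hmul.symm⟩ ?_
    rwa [← hmul, Nat.mul_div_cancel_left _ Nat.card_pos]
  -- the kernel is semiregular outside the fixed set
  have hsemi : ∀ k ∈ K, ∀ p, p ∉ F → k • p = p → k = 1 := by
    intro k hk p hp hkp
    by_contra hk1
    have hord : orderOf k ∣ 2 ^ 4 := by
      have h := Subgroup.orderOf_dvd_natCard K hk
      rwa [hK16] at h
    obtain ⟨j, -, hj⟩ := (Nat.dvd_prime_pow Nat.prime_two).1 hord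
    obtain ⟨i, rfl⟩ : ∃ i, j = i + 1 := by
      refine Nat.exists_eq_succ_of_ne_zero fun h => hk1 ?_
      rw [h, pow_zero, orderOf_eq_one_iff] at hj
      exact hj
    have ho : orderOf (k ^ 2 ^ i) = 2 := by
      rw [orderOf_pow, hj, Nat.gcd_eq_right (pow_dvd_pow 2 (Nat.le_succ i)), pow_succ,
        Nat.mul_div_cancel_left _ (pow_pos (by norm_num) i)]
    have hfix : ∀ q : X, k • q = q → ∀ n : ℕ, k ^ n • q = q := fun q hq n => by
      induction n with
      | zero => rw [pow_zero, one_smul]
      | succ n ih => rw [pow_succ, ← smul_smul, hq, ih]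
    have hsub : insert p F ⊆ fixSet X (k ^ 2 ^ i) := by
      intro q hq
      refine mem_fixSet.2 (hfix q ?_ _)
      rcases Finset.mem_insert.1 hq with rfl | hq
      · exact hkp
      · exact (hKmem.1 hk).2 q hq
    have h1 := Finset.card_le_card hsub
    have h2 := card_fix_le (X := X) L E hX ho
    rw [Finset.card_insert_of_notMem hp, hF7] at h1
    omega
  -- the fixer of four points preserves the fixed set
  have hHF : ∀ h ∈ H, ∀ p ∈ F, h • p ∈ F := by
    intro h hh p hp
    by_contra hq
    set q := h • p with hqdef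
    set T := Finset.univ.image e with hT
    have horb : Nat.card (orbit H q) ∣ 48 := by
      rw [← hH48, Nat.card_coe_set_eq, ← index_stabilizer]
      exact Subgroup.index_dvd_card _
    have hqT : q ∉ T := fun hm => by
      obtain ⟨i, -, hi⟩ := Finset.mem_image.1 hm
      exact hq (hi ▸ he i)
    have hpos : ∀ k ∈ K, k • q ∉ F := fun k hk hm => hq (by
      have := (hKmem.1 (inv_mem hk)).2 _ hm
      rw [inv_smul_smul] at this
      rw [this]; exact hm)
    let j : K → orbit H q := fun k => ⟨(k : G) • q, ⟨⟨k, hKH k.2⟩, rfl⟩⟩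
    have hj : Function.Injective j := by
      intro k l hkl
      have h' : (k : G) • q = (l : G) • q := congrArg Subtype.val hkl
      have := hsemi ((l : G)⁻¹ * k) (mul_mem (inv_mem l.2) k.2) q hq (by rw [mul_smul, h', inv_smul_smul])
      exact Subtype.ext (inv_mul_eq_one.1 this).symm
    have hlow : 16 ≤ Nat.card (orbit H q) := hK16 ▸ Nat.card_le_card_of_injective j hj
    have hoT : ∀ y ∈ orbit H q, y ∉ T := by
      rintro y ⟨c, rfl⟩ hm
      obtain ⟨i, -, hi⟩ := Finset.mem_image.1 hm
      refine hqT (Finset.mem_image.2 ⟨i, Finset.mem_univ _, ?_⟩)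
      have h1 : (c : G) • e i = e i := hHmem c.2 i
      have h2 : e i = (c : G) • q := hi
      rw [h2] at h1
      exact h2.trans (smul_left_cancel (c : G) h1)
    have hup : Nat.card (orbit H q) ≤ 19 := by
      rw [Nat.card_eq_fintype_card, ← Set.toFinset_card]
      refine le_trans (Finset.card_le_card (t := Finset.univ \ T) fun y hy => ?_) ?_
      · exact Finset.mem_sdiff.2 ⟨Finset.mem_univ _, hoT y (Set.mem_toFinset.1 hy)⟩
      · rw [Finset.card_sdiff_of_subset (Finset.subset_univ _), Finset.card_univ, hX, hT,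
          Finset.card_image_of_injective _ e.injective]
        rfl
    have horb16 : Nat.card (orbit H q) = 16 := by
      have : Nat.card (orbit H q) ∈ Nat.divisors 48 := Nat.mem_divisors.2 ⟨horb, by norm_num⟩
      have hall : ∀ n ∈ Nat.divisors 48, 16 ≤ n → n ≤ 19 → n = 16 := by decide +kernel
      exact hall _ this hlow hup
    have hbij : Function.Bijective j :=
      (Nat.bijective_iff_injective_and_card j).2 ⟨hj, hK16.trans horb16.symm⟩
    obtain ⟨k, hk⟩ := hbij.2 ⟨p, ⟨⟨h⁻¹, inv_mem hh⟩, inv_smul_smul h p⟩⟩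
    exact hpos k k.2 (by rw [show (k : G) • q = p from congrArg Subtype.val hk]; exact hp)
  -- an involution of the fixer acts trivially on the fixed set
  let s : H →* Equiv.Perm {p // p ∈ F} :=
    { toFun := fun c =>
        { toFun := fun p => ⟨(c : G) • (p : X), hHF _ c.2 _ p.2⟩
          invFun := fun p => ⟨((c⁻¹ : H) : G) • (p : X), hHF _ (c⁻¹ : H).2 _ p.2⟩
          left_inv := fun p => Subtype.ext (inv_smul_smul (c : G) (p : X))
          right_inv := fun p => Subtype.ext (smul_inv_smul (c : G) (p : X)) }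
      map_one' := Equiv.ext fun p => Subtype.ext (one_smul G (p : X))
      map_mul' := fun c d => Equiv.ext fun p => Subtype.ext (mul_smul (c : G) (d : G) (p : X)) }
  have hker : (K.subgroupOf H) ≤ s.ker := fun c hc =>
    MonoidHom.mem_ker.2 (Equiv.ext fun p => Subtype.ext ((hKmem.1 (Subgroup.mem_subgroupOf.1 hc)).2 _ p.2))
  have h16 : 16 ∣ Nat.card s.ker := by
    have := Subgroup.card_dvd_of_le hker
    rwa [Nat.card_congr (Subgroup.subgroupOfEquivOfLe hKH).toEquiv, hK16] at this
  have hrange : Nat.card s.range ∣ 3 := by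
    have hmul := Subgroup.card_mul_index s.ker
    rw [hH48, Subgroup.index_ker] at hmul
    obtain ⟨m, hm⟩ := h16
    rw [hm] at hmul
    exact ⟨m, by linarith⟩
  have hgH : g ∈ H := hmemH hge
  have hone : s ⟨g, hgH⟩ = 1 := by
    refine orderOf_eq_one_iff.1 (Nat.eq_one_of_dvd_coprimes (by norm_num : Nat.Coprime 2 3) ?_ ?_)
    · have := orderOf_map_dvd s (⟨g, hgH⟩ : H)
      rwa [Subgroup.orderOf_mk, hg] at this
    · exact (Subgroup.orderOf_dvd_natCard s.range ⟨_, rfl⟩).trans hrange
  exact fun p hp => congrArg Subtype.val (Equiv.ext_iff.1 hone ⟨p, hp⟩)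

/-- The fixed sets form a Steiner system. -/
theorem exists_steiner (L : Locals G) [IsPretransitive G X] [IsMultiplyPretransitive G X 4]
    {χ a b : IrrCharacter G} (E : Chi22 χ a b) (hX : Fintype.card X = 23) :
    ∃ B : Set (Finset X), IsSteinerSystem 4 7 B ∧ ∀ (g : G), ∀ s ∈ B, s.image (fun p => g • p) ∈ B := by
  classical
  haveI : Fact (Nat.Prime 7) := ⟨by norm_num⟩
  haveI : Fact (Nat.Prime 2) := ⟨by norm_num⟩
  obtain ⟨x, hx⟩ := exists_prime_orderOf_dvd_card' (G := G) 7 (by rw [L.card]; norm_num)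
  obtain ⟨z', hz'⟩ := exists_prime_orderOf_dvd_card' (G := Subgroup.centralizer ({x} : Set G)) 2
    (by rw [L.c7 x hx]; norm_num)
  set z : G := (z' : G)
  have hz : orderOf z = 2 := by rw [Subgroup.orderOf_coe]; exact hz'
  have hxz : x * z = z * x := (Subgroup.mem_centralizer_singleton_iff.1 z'.2).symm
  set F := fixSet X z
  have hF7 : F.card = 7 := card_fix_seven L E hX hx hz hxz
  refine ⟨{s | ∃ g : G, s = F.image (fun p => g • p)}, ⟨?_, ?_⟩, ?_⟩
  · rintro _ ⟨g, rfl⟩
    rw [Finset.card_image_of_injective _ (MulAction.injective g), hF7]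
  · intro t ht
    obtain ⟨t₀, ht₀, ht₀c⟩ := Finset.exists_subset_card_eq (show 4 ≤ F.card by omega)
    let e₀ : Fin 4 ↪ X := (t₀.equivFinOfCardEq ht₀c).symm.toEmbedding.trans (Function.Embedding.subtype _)
    let e : Fin 4 ↪ X := (t.equivFinOfCardEq ht).symm.toEmbedding.trans (Function.Embedding.subtype _)
    obtain ⟨g, hg⟩ := exists_smul_eq G e₀ e
    have hge : ∀ i, g • e₀ i = e i := fun i => congrArg (fun f : Fin 4 ↪ X => f i) hg
    have he₀ : ∀ i, e₀ i ∈ F := fun i => ht₀ ((t₀.equivFinOfCardEq ht₀c).symm i).2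
    have hsurj : ∀ p ∈ t, ∃ i, e i = p := fun p hp =>
      ⟨t.equivFinOfCardEq ht ⟨p, hp⟩, by simp [e]⟩
    refine ⟨F.image (fun p => g • p), ⟨⟨g, rfl⟩, fun p hp => ?_⟩, ?_⟩
    · obtain ⟨i, rfl⟩ := hsurj p hp
      exact Finset.mem_image.2 ⟨_, he₀ i, hge i⟩
    rintro _ ⟨⟨k, rfl⟩, hk⟩
    set c := g⁻¹ * k with hc
    have hw : orderOf (c * z * c⁻¹) = 2 := by rw [← MulAut.conj_apply, MulEquiv.orderOf_eq, hz]
    have hwe : ∀ i, (c * z * c⁻¹) • e₀ i = e₀ i := by
      intro i
      rw [← mem_fixSet, fixSet_conj, Finset.mem_image]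
      obtain ⟨q, hq, hqe⟩ := Finset.mem_image.1 (hk (((t.equivFinOfCardEq ht).symm i).2 :
        ((t.equivFinOfCardEq ht).symm i : X) ∈ t))
      refine ⟨q, hq, ?_⟩
      rw [hc, mul_smul, hqe]
      exact inv_smul_eq_iff.2 (hge i).symm
    have hsub : F ⊆ fixSet X (c * z * c⁻¹) := fun p hp =>
      mem_fixSet.2 (fixer_involution_fix L E hX hx hz hxz e₀ he₀ hw hwe p hp)
    rw [fixSet_conj] at hsub
    have heq : F = F.image (fun p => c • p) := Finset.eq_of_subset_of_card_le hsub
      (by rw [Finset.card_image_of_injective _ (MulAction.injective c)])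
    conv_rhs => rw [heq]
    rw [Finset.image_image]
    exact Finset.image_congr fun p _ => by simp [hc, mul_smul]
  · rintro g _ ⟨k, rfl⟩
    exact ⟨g * k, by rw [Finset.image_image]; exact Finset.image_congr fun p _ => (mul_smul g k p).symm⟩

/-- The recognition. -/
theorem nonempty_equiv {G : Type u} [Group G] [Finite G] (L : Locals G) :
    Nonempty (G ≃* ↥Spor.M23) := by
  classical
  haveI : Fintype G := Fintype.ofFinite G
  obtain ⟨χ, a, b, E⟩ := exists_chi22 L
  obtain ⟨X, _, φ, hX, hinj, htr⟩ := exists_action23 L E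
  letI : MulAction G X := MulAction.compHom X φ
  haveI : IsPretransitive G X := ⟨htr⟩
  haveI : FaithfulSMul G X := ⟨fun h => hinj (Equiv.ext h)⟩
  haveI := four_transitive (X := X) L E hX
  obtain ⟨B, hB, hinv⟩ := exists_steiner (X := X) L E hX
  obtain ⟨e, he⟩ := Steiner.exists_iso23 hX hB
  let ψ : ↥(Golay.stabSets [{(none : GolayPt)}]) ≃* ↥(setSystemAut B) :=
    Steiner.autStd23Equiv.symm.trans (Steiner.autEquiv e he)
  have hmem : ∀ g, φ g ∈ setSystemAut B := by
    intro g
    rw [mem_stabilizer_iff]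
    ext s
    rw [Set.mem_smul_set_iff_inv_smul_mem, Finset.smul_finset_def]
    constructor
    · intro h
      have h' := hinv g _ h
      rw [Finset.image_image] at h'
      have e1 : ((fun p => g • p) ∘ fun x => (φ g)⁻¹ • x) = (id : X → X) :=
        funext fun p => (φ g).apply_symm_apply p
      rwa [e1, Finset.image_id] at h'
    · intro h
      have h' := hinv g⁻¹ _ h
      rwa [Finset.image_congr (g := fun p => (φ g)⁻¹ • p) fun p _ => by
        show φ g⁻¹ p = (φ g)⁻¹ p
        rw [map_inv]] at h'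
  let f : G →* ↥(setSystemAut B) := φ.codRestrict _ hmem
  have hcard : Nat.card ↥(setSystemAut B) = 10200960 := by
    rw [← Nat.card_congr ψ.toEquiv, ← Golay.stabIn_m23, Golay.card_stabIn_m23]
  have hbij : Function.Bijective f := (Nat.bijective_iff_injective_and_card f).2
    ⟨fun g h hgh => hinj (congrArg Subtype.val hgh), L.card.trans hcard.symm⟩
  exact ⟨((MulEquiv.ofBijective f hbij).trans ψ.symm).trans (MulEquiv.subgroupCongr Golay.sporM23_eq.symm)⟩

end Cfsg.Agent.M23Uniq
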