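import Cfsg.Agent.Lib.M23Uniq.Locals
import Cfsg.Agent.Lib.Golay.TripleGen

/-!
The numbers of elements of given order in the one-point stabiliser in the group of the code.
-/

set_option linter.unusedSectionVars false
set_option linter.style.haveILetI false
set_option maxRecDepth 100000

namespace Cfsg.Agent.M23Uniq

open Cfsg Cfsg.Agent.PermCert Cfsg.Agent.Golay Cfsg.Agent.Golay.Cert Cfsg.Agent.Golay.Local Cfsg.Agent.Golay.SB Cfsg.Agent.Golay.TripleGen

set_option quotPrecheck false in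
local notation "Mg" => (↥Cfsg.Spor.M23)


/-- A multiplier of an element of order 23. -/
def w23 : Elt := (973853976133585110058848864558534048, 967596529050615455113128315128923520)
/-- A multiplier of an element of order 11. -/
def w11 : Elt := (958248046582204256308865349248584736, 966279962306693228018818719759292448)
/-- A multiplier of an element of order 7. -/
def w7 : Elt := (960150773980789993869058661693238304, 975726051670920587886971449905989664)
/-- An involution commuting with an element of order 7. -/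
def z7 : Elt := (983994255157052744165503858320194220, 983994255157052744165503858320194220)
/-- A multiplier of an element of order 5. -/
def w5 : Elt := (984270580712105536413373047531219104, 984161562718353760924956907930757376)
/-- An element of order 3 commuting with an element of order 5. -/
def z5 : Elt := (984479149392869084947388430670178946, 984631841559588658055930186102833450)

/-- The checks on an element. -/
def memB (e : Elt) : Bool := validElt 5 24 e && inStabB m23Inv e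

theorem checks :
    (memB elt23 && memB elt11 && memB elt7 && memB elt5 && memB w23 && memB w11 && memB w7 && memB z7 &&
      memB w5 && memB z5 &&
      sameF (cmpF w23.1 elt23.1) (cmpF (powF elt23.1 2) w23.1) &&
      sameF (cmpF w11.1 elt11.1) (cmpF (powF elt11.1 3) w11.1) &&
      sameF (cmpF w7.1 elt7.1) (cmpF (powF elt7.1 2) w7.1) &&
      sameF (cmpF w5.1 elt5.1) (cmpF (powF elt5.1 2) w5.1) &&
      sameF (cmpF z7.1 elt7.1) (cmpF elt7.1 z7.1) && sameF (cmpF z5.1 elt5.1) (cmpF elt5.1 z5.1) &&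
      ordF z7.1 2 && ordF z5.1 3) = true := by decide +kernel

theorem free_cards : (maskSet fix23 \ {none}).card = 0 ∧ (maskSet fix11 \ {none}).card = 1 ∧
    (maskSet fix7 \ {none}).card = 2 ∧ (maskSet fix5 \ {none}).card = 3 := by decide +kernel

theorem le_M24 : Spor.M23 ≤ M24 := fun _ h => h.1

theorem fix_none (σ : Equiv.Perm GolayPt) (h : σ ∈ Spor.M23) : ∀ q ∈ ({none} : Finset GolayPt), σ q = q := by
  intro q hq
  rw [Finset.mem_singleton] at hq
  subst hq
  exact h.2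

theorem mem_of {e : Elt} (h : memB e = true) : permOf e ∈ Spor.M23 := by
  rw [memB, Bool.and_eq_true] at h
  exact mem_M23_iff.2 (permOf_mem_stabIn h.1 h.2)

attribute [local irreducible] cmpF sameF

attribute [local irreducible] powF memB ordF

/-- An element with its multiplier and the bound on the normaliser. -/
theorem local_eq (E : Elem) {ex : Elt} {p : ℕ} (hx : E.O.x = ex) (hp : E.O.p = p) (hE : memB ex = true) {w : Elt} (hw : memB w = true) {k e c v : ℕ}
    (hck : sameF (cmpF w.1 ex.1) (cmpF (powF ex.1 k) w.1) = true)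
    (hk : ∀ i < e, ∀ j < e, k ^ i % p = k ^ j % p → i = j)
    (hv : (maskSet E.O.fix \ {none}).card.factorial * (E.O.p * E.b) = v) (hcv : c * e = v) (he : 0 < e)
    (hc : c ≤ Nat.card (Subgroup.centralizer ({(⟨_, mem_of hE⟩ : Mg)} : Set Mg))) :
    orderOf (⟨_, mem_of hE⟩ : Mg) = p ∧
      Nat.card (Subgroup.centralizer ({(⟨_, mem_of hE⟩ : Mg)} : Set Mg)) = c ∧
      Nat.card (Subgroup.normalizer ((Subgroup.zpowers (⟨_, mem_of hE⟩ : Mg) : Subgroup Mg) : Set Mg)) = v := by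
  subst hx hp
  classical
  letI : Fintype Mg := Fintype.ofFinite _
  set x : Mg := ⟨_, mem_of hE⟩
  have hord : orderOf x = E.O.p := by
    rw [← Subgroup.orderOf_coe]; exact Orb.orderOf_permOf E.ok E.prime
  have hle := E.le_index le_M24 (mem_of hE) {none} fix_none
  rw [Elem.free, hv] at hle
  set N := Subgroup.normalizer ((Subgroup.zpowers x : Subgroup Mg) : Set Mg)
  have hNv : Nat.card N ≤ v := by
    have := N.card_mul_index
    rw [← this, mul_comm (Nat.card N)] at hle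
    exact Nat.le_of_mul_le_mul_left hle (Nat.pos_of_ne_zero Subgroup.index_ne_zero_of_finite)
  have hw' := hw
  have hE' := hE
  rw [memB, Bool.and_eq_true] at hw' hE'
  have hconj : (⟨_, mem_of hw⟩ : Mg) * x * (⟨_, mem_of hw⟩ : Mg)⁻¹ = x ^ k := by
    rw [mul_inv_eq_iff_eq_mul]
    refine Subtype.ext ?_
    exact (sameF_iff ((code_permOf hw'.1).cmp (code_permOf hE'.1))
      ((code_powF (code_permOf hE'.1) k).cmp (code_permOf hw'.1))).1 hck
  have h := mul_le_normalizer hconj (e := e) (by rw [hord]; exact hk)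
  have hc1 := Nat.mul_le_mul_right e hc
  have hcc : Nat.card (Subgroup.centralizer ({x} : Set Mg)) ≤ c :=
    Nat.le_of_mul_le_mul_right (h.trans (hcv ▸ hNv)) he
  exact ⟨hord, le_antisymm hcc hc, le_antisymm hNv (hcv ▸ (hc1.trans h))⟩

theorem order_eq (E : Elem) {ex : Elt} {p : ℕ} (hx : E.O.x = ex) (hp : E.O.p = p) (hE : memB ex = true) :
    orderOf (⟨_, mem_of hE⟩ : Mg) = p := by
  subst hx hp
  rw [← Subgroup.orderOf_coe]
  exact Orb.orderOf_permOf E.ok E.prime

/-- A cyclic centraliser through a commuting element of coprime order. -/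
theorem cyclic_of {p q : ℕ} {x z : Mg} (hx : orderOf x = p) (hz : orderOf z = q) (hpq : p.Coprime q)
    (hcomm : Commute x z) : p * q ≤ Nat.card (Subgroup.centralizer ({x} : Set Mg)) ∧
      (Nat.card (Subgroup.centralizer ({x} : Set Mg)) = p * q →
        IsCyclic (Subgroup.centralizer ({x} : Set Mg))) := by
  have hmem : x * z ∈ Subgroup.centralizer ({x} : Set Mg) :=
    Subgroup.mem_centralizer_singleton_iff.2 (((Commute.refl x).mul_right hcomm).symm.eq)
  have ho : orderOf (⟨x * z, hmem⟩ : Subgroup.centralizer ({x} : Set Mg)) = p * q := by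
    rw [Subgroup.orderOf_mk, hcomm.orderOf_mul_eq_mul_orderOf_of_coprime (by rw [hx, hz]; exact hpq), hx, hz]
  refine ⟨?_, fun h => isCyclic_of_orderOf_eq_card _ (ho.trans h.symm)⟩
  rw [← ho]
  exact Nat.le_of_dvd Nat.card_pos (orderOf_dvd_natCard _)

theorem self_mem (x : Mg) : orderOf x ≤ Nat.card (Subgroup.centralizer ({x} : Set Mg)) := by
  rw [← Nat.card_zpowers]
  exact Nat.le_of_dvd Nat.card_pos (Subgroup.card_dvd_of_le (Subgroup.zpowers_le.2
    (Subgroup.mem_centralizer_singleton_iff.2 rfl)))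

/-- What is used about one prime. -/
def StdPrime (p v c : ℕ) : Prop :=
  ∃ x : Mg, orderOf x = p ∧ Nat.card (Subgroup.centralizer ({x} : Set Mg)) = c ∧
    IsCyclic (Subgroup.centralizer ({x} : Set Mg)) ∧
    Nat.card (Subgroup.normalizer ((Subgroup.zpowers x : Subgroup Mg) : Set Mg)) = v

theorem std23 : StdPrime 23 253 23 := by
  have h := checks
  simp only [Bool.and_eq_true] at h
  obtain ⟨⟨⟨⟨⟨⟨⟨⟨⟨⟨⟨⟨⟨⟨⟨⟨⟨m23, m11⟩, m7⟩, m5⟩, a23⟩, a11⟩, a7⟩, b7⟩, a5⟩, b5⟩, k23⟩, k11⟩, k7⟩, k5⟩, l7⟩, l5⟩, o7⟩, o5⟩ := h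
  have hs := self_mem (⟨_, mem_of m23⟩ : Mg)
  have ho : orderOf (⟨_, mem_of m23⟩ : Mg) = 23 := order_eq E23 rfl rfl m23
  obtain ⟨h1, h2, h3⟩ := local_eq E23 (ex := elt23) (p := 23) rfl rfl m23 a23 (k := 2) (e := 11) (c := 23) (v := 253) k23 (by decide)
    (by simp only [E23, O23, free_cards.1]; norm_num) (by norm_num) (by norm_num) (ho ▸ hs)
  refine ⟨_, h1, h2, ?_, h3⟩
  haveI : Fact (Nat.Prime 23) := ⟨by norm_num⟩
  exact isCyclic_of_prime_card (p := 23) h2

theorem std11 : StdPrime 11 55 11 := by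
  have h := checks
  simp only [Bool.and_eq_true] at h
  obtain ⟨⟨⟨⟨⟨⟨⟨⟨⟨⟨⟨⟨⟨⟨⟨⟨⟨m23, m11⟩, m7⟩, m5⟩, a23⟩, a11⟩, a7⟩, b7⟩, a5⟩, b5⟩, k23⟩, k11⟩, k7⟩, k5⟩, l7⟩, l5⟩, o7⟩, o5⟩ := h
  have hs := self_mem (⟨_, mem_of m11⟩ : Mg)
  have ho : orderOf (⟨_, mem_of m11⟩ : Mg) = 11 := order_eq E11 rfl rfl m11
  obtain ⟨h1, h2, h3⟩ := local_eq E11 (ex := elt11) (p := 11) rfl rfl m11 a11 (k := 3) (e := 5) (c := 11) (v := 55) k11 (by decide)
    (by simp only [E11, O11, free_cards.2.1]; norm_num) (by norm_num) (by norm_num) (ho ▸ hs)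
  refine ⟨_, h1, h2, ?_, h3⟩
  haveI : Fact (Nat.Prime 11) := ⟨by norm_num⟩
  exact isCyclic_of_prime_card (p := 11) h2

theorem std7 : StdPrime 7 42 14 := by
  have h := checks
  simp only [Bool.and_eq_true] at h
  obtain ⟨⟨⟨⟨⟨⟨⟨⟨⟨⟨⟨⟨⟨⟨⟨⟨⟨m23, m11⟩, m7⟩, m5⟩, a23⟩, a11⟩, a7⟩, b7⟩, a5⟩, b5⟩, k23⟩, k11⟩, k7⟩, k5⟩, l7⟩, l5⟩, o7⟩, o5⟩ := h
  have hx' := m7
  have hz' := b7
  rw [memB, Bool.and_eq_true] at hx' hz'
  have ho : orderOf (⟨_, mem_of m7⟩ : Mg) = 7 := order_eq E7 rfl rfl m7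
  have hz : orderOf (⟨_, mem_of b7⟩ : Mg) = 2 := by
    rw [← Subgroup.orderOf_coe]; exact orderOf_of_ordF Nat.prime_two (code_permOf hz'.1) o7
  have hcm : Commute (⟨_, mem_of m7⟩ : Mg) (⟨_, mem_of b7⟩ : Mg) := Subtype.ext
    ((sameF_iff ((code_permOf hz'.1).cmp (code_permOf hx'.1))
      ((code_permOf hx'.1).cmp (code_permOf hz'.1))).1 l7).symm
  obtain ⟨hge, hcyc⟩ := cyclic_of ho hz (by norm_num) hcm
  obtain ⟨h1, h2, h3⟩ := local_eq E7 (ex := elt7) (p := 7) rfl rfl m7 a7 (k := 2) (e := 3) (c := 14) (v := 42) k7 (by decide)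
    (by simp only [E7, O7, free_cards.2.2.1]; norm_num [Nat.factorial]) (by norm_num) (by norm_num) hge
  exact ⟨_, h1, h2, hcyc h2, h3⟩

theorem std5 : StdPrime 5 60 15 := by
  have h := checks
  simp only [Bool.and_eq_true] at h
  obtain ⟨⟨⟨⟨⟨⟨⟨⟨⟨⟨⟨⟨⟨⟨⟨⟨⟨m23, m11⟩, m7⟩, m5⟩, a23⟩, a11⟩, a7⟩, b7⟩, a5⟩, b5⟩, k23⟩, k11⟩, k7⟩, k5⟩, l7⟩, l5⟩, o7⟩, o5⟩ := h
  have hx' := m5
  have hz' := b5
  rw [memB, Bool.and_eq_true] at hx' hz'
  have ho : orderOf (⟨_, mem_of m5⟩ : Mg) = 5 := order_eq E5 rfl rfl m5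
  have hz : orderOf (⟨_, mem_of b5⟩ : Mg) = 3 := by
    rw [← Subgroup.orderOf_coe]; exact orderOf_of_ordF Nat.prime_three (code_permOf hz'.1) o5
  have hcm : Commute (⟨_, mem_of m5⟩ : Mg) (⟨_, mem_of b5⟩ : Mg) := Subtype.ext
    ((sameF_iff ((code_permOf hz'.1).cmp (code_permOf hx'.1))
      ((code_permOf hx'.1).cmp (code_permOf hz'.1))).1 l5).symm
  obtain ⟨hge, hcyc⟩ := cyclic_of ho hz (by norm_num) hcm
  obtain ⟨h1, h2, h3⟩ := local_eq E5 (ex := elt5) (p := 5) rfl rfl m5 a5 (k := 2) (e := 4) (c := 15) (v := 60) k5 (by decide)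
    (by simp only [E5, O5, free_cards.2.2.2]; norm_num [Nat.factorial]) (by norm_num) (by norm_num) hge
  exact ⟨_, h1, h2, hcyc h2, h3⟩

end Cfsg.Agent.M23Uniq
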