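import Cfsg.Agent.Lib.M23Uniq.Degrees
import Cfsg.Agent.Lib.M12Uniq.SymSquare

/-!
The character of degree 22 of a simple group of order 10200960 and the constituents of its square.
-/

set_option linter.unusedSectionVars false
set_option linter.style.haveILetI false

namespace Cfsg.Agent.M23Uniq

open Cfsg Cfsg.Agent.Char Cfsg.Agent.Blocks Cfsg.Agent.DefOne

open scoped ComplexConjugate

universe u

variable {G : Type u} [Group G] [Fintype G]

/-- The list of the degrees. -/
def degList : List ℕ := [1, 22, 45, 45, 230, 231, 231, 231, 253, 770, 770, 896, 896, 990, 990, 1035, 2024]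

theorem degList_eq : (↑degList : Multiset ℕ) = ↑target + {253, 2024} := by decide

theorem seven_check : ∀ a ∈ [22, 230, 253], ∀ b ∈ degList, ∀ y ∈ degList,
    (b % 7 = 1 ∨ b % 7 = 6) → (y % 7 = 3 ∨ y % 7 = 4) → b ≠ 1 → b ≠ a →
    1 + sgn 7 a * (a : ℤ) + sgn 7 b * (b : ℤ) + sg7 y * (y : ℤ) ≠ 0 := by decide

theorem Locals.dg_mem (L : Locals G) (χ : IrrCharacter G) : dg χ ∈ degList := by
  rw [← Multiset.mem_coe, degList_eq, ← degrees L]
  exact Multiset.mem_map_of_mem _ (Finset.mem_univ_val χ)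

theorem Locals.exists_dg (L : Locals G) {d : ℕ} (h : d ∈ degList) : ∃ χ : IrrCharacter G, dg χ = d := by
  have h' : d ∈ degMS G := by rw [degrees L, ← degList_eq]; exact Multiset.mem_coe.2 h
  obtain ⟨χ, -, hχ⟩ := Multiset.mem_map.1 h'
  exact ⟨χ, hχ⟩

theorem Locals.dg_inj (L : Locals G) {d : ℕ} (h : degList.count d = 1) {a b : IrrCharacter G}
    (ha : dg a = d) (hb : dg b = d) : a = b := by
  classical
  by_contra hne
  have h1 : ({a, b} : Finset (IrrCharacter G)).val.map (fun χ => dg χ) ≤ degMS G :=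
    Multiset.map_le_map (Finset.val_le_iff.2 (Finset.subset_univ _))
  have h2 := Multiset.count_le_of_le d h1
  rw [degrees L, ← degList_eq, Multiset.coe_count, h, Finset.insert_val_of_notMem (by simpa using hne),
    Finset.singleton_val, Multiset.map_cons, Multiset.map_singleton, ha, hb, Multiset.count_cons_self,
    Multiset.count_singleton_self] at h2
  omega

/-- The characters of degree 22, 230 and 253 are outside the principal families at 7. -/
theorem not_mem_seven (L : Locals G) [Fact (Nat.Prime 7)] {P : Sylow 7 G} [Fintype (P : Subgroup G)]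
    {X Y : Finset (IrrCharacter G)} {δ : ℤ} (F : PFam 7 3 (P : Subgroup G) X Y δ) {a : IrrCharacter G}
    (ha : dg a ∈ [22, 230, 253]) : a ∉ X ∧ a ∉ Y := by
  classical
  have hYd : ∀ θ ∈ Y, δ = sg7 (dg θ) ∧ (dg θ % 7 = 3 ∨ dg θ % 7 = 4) := by
    intro θ hθ
    have h1 := int_mod_cases (d := dg θ) (by norm_num) (F.degY θ hθ)
    rcases F.sign with rfl | rfl
    · have e : dg θ % 7 = 4 := by omega
      exact ⟨by rw [sg7, if_neg (by omega)], Or.inr e⟩
    · have e : dg θ % 7 = 3 := by omega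
      exact ⟨by rw [sg7, if_pos e], Or.inl e⟩
  have ha7 : dg a % 7 = 1 ∨ dg a % 7 = 6 := by
    simp only [List.mem_cons, List.not_mem_nil, or_false] at ha
    omega
  have ha1 : a ≠ principal G := by
    rintro rfl
    rw [dg_principal] at ha
    simp at ha
  refine ⟨fun h => ?_, fun h => by have := (hYd a h).2; omega⟩
  have hpr : principal G ∈ X := by
    refine F.principal.resolve_right fun e => ?_
    have := F.cardY
    rw [e, Finset.card_singleton] at this
    omega
  have hc : ((X.erase (principal G)).erase a).card = 1 := by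
    rw [Finset.card_erase_of_mem (Finset.mem_erase.2 ⟨ha1, h⟩), Finset.card_erase_of_mem hpr, F.cardX]
  obtain ⟨b, hb⟩ := Finset.card_eq_one.1 hc
  have hb' : b ∈ (X.erase (principal G)).erase a := hb ▸ Finset.mem_singleton_self b
  obtain ⟨hba, hbp, hbX⟩ : b ≠ a ∧ b ≠ principal G ∧ b ∈ X := by
    simpa only [Finset.mem_erase] using hb'
  obtain ⟨θ, hθ⟩ := F.nonempty
  have hrel := relation_deg F (by norm_num) hθ
  rw [← Finset.add_sum_erase _ _ hpr, ← Finset.add_sum_erase _ _ (Finset.mem_erase.2 ⟨ha1, h⟩), hb,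
    Finset.sum_singleton, dg_principal, (hYd θ hθ).1] at hrel
  refine seven_check _ ha _ (L.dg_mem b) _ (L.dg_mem θ) (F.degX b hbX) (hYd θ hθ).2
    (fun e => hbp (L.eq_principal e)) (fun e => hba (L.dg_inj ?_ e rfl)) ?_
  · simp only [List.mem_cons, List.not_mem_nil, or_false] at ha
    rcases ha with r | r | r <;> rw [r] <;> rfl
  · rw [show sgn 7 1 = 1 from rfl] at hrel
    push_cast at hrel
    linarith

/-- The sum over the nontrivial elements of `P` of a function. -/
noncomputable def fsum (P : Subgroup G) [Fintype P] (f : G → ℂ) : ℂ := ∑ y : P, f y - f 1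

theorem fsum_combination (P : Subgroup G) [Fintype P] (m : IrrCharacter G → ℕ) :
    fsum P (∑ ψ, (m ψ : ℂ) • (ψ : G → ℂ)) = ∑ ψ, (m ψ : ℂ) * tsum' P ψ := by
  simp only [fsum, tsum', Finset.sum_apply, Pi.smul_apply, smul_eq_mul, mul_sub, Finset.sum_sub_distrib,
    Finset.mul_sum, irr_one_eq_charDegree]
  rw [Finset.sum_comm]

theorem fsum_const (P : Subgroup G) [Fintype P] {f : G → ℂ} {c : ℂ} (h : ∀ y ∈ P, y ≠ 1 → f y = c) :
    fsum P f = ((Nat.card P - 1 : ℕ) : ℂ) * c := by
  classical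
  rw [fsum, ← Finset.add_sum_erase _ _ (Finset.mem_univ (1 : P)), OneMemClass.coe_one, add_sub_cancel_left,
    Finset.sum_congr rfl fun (y : P) hy => h y y.2 fun e => Finset.ne_of_mem_erase hy (Subtype.ext e),
    Finset.sum_const, Finset.card_erase_of_mem (Finset.mem_univ _), Finset.card_univ,
    ← Nat.card_eq_fintype_card, nsmul_eq_mul]

/-- The constituents of a small character. -/
theorem constituents (L : Locals G) (Q₁ : Sylow 23 G) [Fintype (Q₁ : Subgroup G)] (Q₂ : Sylow 11 G)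
    [Fintype (Q₂ : Subgroup G)] {φ : G → ℂ} (hφ : IsCharacter G φ) {D : ℕ} (hD : φ 1 = D) (hD' : D ≤ 253)
    {v₁ v₂ : ℤ} (h₁ : fsum (Q₁ : Subgroup G) φ = v₁) (h₂ : fsum (Q₂ : Subgroup G) φ = v₂) :
    ∃ m : IrrCharacter G → ℕ, φ = ∑ ψ, (m ψ : ℂ) • (ψ : G → ℂ) ∧
      (∀ ψ, m ψ ≠ 0 → dg ψ ∈ [1, 22, 45, 230, 231, 253]) ∧
      ∀ n : ℕ → ℕ, (∀ d, n d = ∑ ψ ∈ Finset.univ.filter (fun ψ => dg ψ = d), m ψ) →
        (D : ℤ) = n 1 + 22 * n 22 + 45 * n 45 + 230 * n 230 + 231 * n 231 + 253 * n 253 ∧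
        v₁ = 22 * n 1 - 22 * n 22 - 22 * n 45 + 22 * n 231 ∧
        v₂ = 10 * n 1 + 10 * n 45 - 10 * n 230 := by
  classical
  haveI : Fact (Nat.Prime 23) := ⟨by norm_num⟩
  haveI : Fact (Nat.Prime 11) := ⟨by norm_num⟩
  obtain ⟨_, _, _, _, h23, -⟩ := data23 L Q₁
  obtain ⟨_, _, _, _, h11, -⟩ := data11 L Q₂
  obtain ⟨m, rfl⟩ := IsCharacter.exists_decomp hφ
  have hd : D = ∑ ψ : IrrCharacter G, m ψ * dg ψ := by
    have h : (D : ℂ) = ∑ ψ : IrrCharacter G, (m ψ : ℂ) * (dg ψ : ℂ) := by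
      rw [← hD, Finset.sum_apply]
      exact Finset.sum_congr rfl fun ψ _ => by rw [Pi.smul_apply, smul_eq_mul, irr_one_eq_charDegree]
    exact_mod_cast h
  have hsmall : ∀ ψ, m ψ ≠ 0 → dg ψ ∈ [1, 22, 45, 230, 231, 253] := by
    intro ψ h0
    have h := Finset.single_le_sum (f := fun ψ : IrrCharacter G => m ψ * dg ψ) (fun _ _ => Nat.zero_le _)
      (Finset.mem_univ ψ)
    rw [← hd] at h
    have h' : dg ψ ≤ 253 := le_trans (Nat.le_mul_of_pos_left _ (Nat.pos_of_ne_zero h0)) (h.trans hD')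
    have hall : ∀ d ∈ degList, d ≤ 253 → d ∈ [1, 22, 45, 230, 231, 253] := by decide
    exact hall _ (L.dg_mem ψ) h'
  refine ⟨m, rfl, hsmall, fun n hn => ?_⟩
  have hsplit : ∀ t : ℕ → ℤ, ∑ ψ : IrrCharacter G, (m ψ : ℤ) * t (dg ψ) =
      (n 1 : ℤ) * t 1 + ((n 22 : ℤ) * t 22 + ((n 45 : ℤ) * t 45 + ((n 230 : ℤ) * t 230 +
        ((n 231 : ℤ) * t 231 + (n 253 : ℤ) * t 253)))) := by
    intro t
    rw [← Finset.sum_filter_of_ne (p := fun ψ => dg ψ ∈ ([1, 22, 45, 230, 231, 253].toFinset : Finset ℕ))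
        (fun ψ _ h => List.mem_toFinset.2 (hsmall ψ fun e => h (by rw [e]; simp))),
      ← Finset.sum_fiberwise_of_maps_to (g := fun ψ : IrrCharacter G => dg ψ)
        (fun ψ hψ => (Finset.mem_filter.1 hψ).2), List.sum_toFinset _ (by decide)]
    have hfib : ∀ d ∈ ([1, 22, 45, 230, 231, 253] : List ℕ),
        ∑ ψ ∈ ((Finset.univ : Finset (IrrCharacter G)).filter
            fun ψ => dg ψ ∈ ([1, 22, 45, 230, 231, 253].toFinset : Finset ℕ)).filter (fun ψ => dg ψ = d),
          (m ψ : ℤ) * t (dg ψ) = (n d : ℤ) * t d := by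
      intro d hd
      rw [Finset.sum_congr rfl fun ψ hψ => by rw [(Finset.mem_filter.1 hψ).2], ← Finset.sum_mul,
        Finset.filter_filter, hn d, Nat.cast_sum]
      congr 1
      refine Finset.sum_congr (Finset.filter_congr fun ψ _ => ⟨fun h => h.2, fun h => ⟨?_, h⟩⟩) fun _ _ => rfl
      rw [h]
      exact List.mem_toFinset.2 hd
    rw [List.map_congr_left hfib]
    simp
  refine ⟨?_, ?_, ?_⟩
  · have h := hsplit fun d => (d : ℤ)
    rw [hd, Nat.cast_sum, Finset.sum_congr rfl fun ψ _ => Nat.cast_mul (m ψ) (dg ψ), h]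
    push_cast
    ring
  · have h := hsplit t23
    rw [fsum_combination, Finset.sum_congr rfl fun ψ _ => by rw [(h23 ψ).2.2.2]] at h₁
    have h' : v₁ = ∑ ψ : IrrCharacter G, (m ψ : ℤ) * t23 (dg ψ) := by
      exact_mod_cast h₁.symm
    rw [h', h]
    norm_num [t23]
    ring
  · have h := hsplit t11
    rw [fsum_combination, Finset.sum_congr rfl fun ψ _ => by rw [(h11 ψ).2.2.2]] at h₂
    have h' : v₂ = ∑ ψ : IrrCharacter G, (m ψ : ℤ) * t11 (dg ψ) := by
      exact_mod_cast h₂.symm
    rw [h', h]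
    norm_num [t11]
    ring

/-- A combination with all mass on a single degree which occurs once. -/
theorem eq_single {m : IrrCharacter G → ℕ} {a : IrrCharacter G} (h1 : m a = 1)
    (h0 : ∀ ψ, ψ ≠ a → m ψ = 0) : ∑ ψ, (m ψ : ℂ) • (ψ : G → ℂ) = (a : G → ℂ) := by
  classical
  rw [Finset.sum_eq_single a (fun ψ _ hψ => by rw [h0 ψ hψ, Nat.cast_zero, zero_smul])
    (fun h => absurd (Finset.mem_univ a) h), h1, Nat.cast_one, one_smul]

/-- A character of degree 22 with the constituents of its two squares and its value at some involutions. -/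
structure Chi22 (χ a b : IrrCharacter G) : Prop where
  deg : dg χ = 22
  dega : dg a = 230
  degb : dg b = 231
  real : ∀ g, conj ((χ : G → ℂ) g) = (χ : G → ℂ) g
  symSq : ∀ g, ((χ : G → ℂ) g * (χ : G → ℂ) g + (χ : G → ℂ) (g * g)) / 2 =
    (principal G : G → ℂ) g + (χ : G → ℂ) g + (a : G → ℂ) g
  extSq : ∀ g, ((χ : G → ℂ) g * (χ : G → ℂ) g - (χ : G → ℂ) (g * g)) / 2 = (b : G → ℂ) g
  val7 : ∀ x z : G, orderOf x = 7 → orderOf z = 2 → x * z = z * x → (χ : G → ℂ) z = 6

set_option maxHeartbeats 1600000 in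
theorem exists_chi22 (L : Locals G) : ∃ χ a b : IrrCharacter G, Chi22 χ a b := by
  classical
  haveI := L.simple
  haveI : Fact (Nat.Prime 23) := ⟨by norm_num⟩
  haveI : Fact (Nat.Prime 11) := ⟨by norm_num⟩
  haveI : Fact (Nat.Prime 7) := ⟨by norm_num⟩
  haveI : Fact (Nat.Prime 2) := ⟨by norm_num⟩
  obtain ⟨Q₁⟩ : Nonempty (Sylow 23 G) := inferInstance
  obtain ⟨Q₂⟩ : Nonempty (Sylow 11 G) := inferInstance
  haveI : Fintype (Q₁ : Subgroup G) := Fintype.ofFinite _
  haveI : Fintype (Q₂ : Subgroup G) := Fintype.ofFinite _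
  have hQ₁ : Nat.card (Q₁ : Subgroup G) = 23 := L.sylow_card (by norm_num) (by norm_num) Q₁
  have hQ₂ : Nat.card (Q₂ : Subgroup G) = 11 := L.sylow_card (by norm_num) (by norm_num) Q₂
  obtain ⟨χ, hdeg⟩ := L.exists_dg (show (22 : ℕ) ∈ degList by decide)
  have huniq : ∀ ψ : IrrCharacter G, dg ψ = 22 → ψ = χ := fun ψ h => L.dg_inj (by decide) h hdeg
  have hχ1 : (χ : G → ℂ) 1 = 22 := by rw [irr_one_eq_charDegree, show charDegree (χ : G → ℂ) = 22 from hdeg]; norm_num
  have hreal : ∀ g, conj ((χ : G → ℂ) g) = (χ : G → ℂ) g := by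
    intro g
    have h1 : DefOne.galT (starRingAut (R := ℂ)) χ = χ := huniq _ (by
      have h2 : ((dg (DefOne.galT (starRingAut (R := ℂ)) χ) : ℂ)) = (dg χ : ℂ) := by
        rw [← irr_one_eq_charDegree, ← irr_one_eq_charDegree, DefOne.galT_one]
      rw [← hdeg]; exact_mod_cast h2)
    have h3 := DefOne.galT_apply (starRingAut (R := ℂ)) χ g
    rw [h1] at h3
    exact h3.symm
  have hu23 : ∀ y ∈ (Q₁ : Subgroup G), y ≠ 1 → (χ : G → ℂ) y = -1 := by
    obtain ⟨X, Y, δ, F, hall, -, -, -⟩ := pfam_at (p := 23) (e := 11) (k := 1) (by norm_num)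
      (fun x hx => by rw [L.c23 x hx]) (fun Q => by rw [L.n23 Q]) Q₁ hQ₁
    intro y hy hy1
    rcases hall rfl χ (by rw [hdeg]; norm_num) with h | h
    · rw [F.valX χ h y hy hy1, show charDegree (χ : G → ℂ) = 22 from hdeg]
      norm_num [sgn]
    · have h1 := int_mod_cases (d := dg χ) (by norm_num) (F.degY χ h)
      rw [hdeg] at h1
      rcases F.sign with rfl | rfl <;> norm_num at h1
  have hu11 : ∀ y ∈ (Q₂ : Subgroup G), y ≠ 1 → (χ : G → ℂ) y = 0 := by
    obtain ⟨X, Y, δ, F, -, -, hz, -⟩ := pfam_at (p := 11) (e := 5) (k := 1) (by norm_num)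
      (fun x hx => by rw [L.c11 x hx]) (fun Q => by rw [L.n11 Q]) Q₂ hQ₂
    exact hz χ (by rw [hdeg]; norm_num)
  have hsqne : ∀ {p : ℕ} {Q : Subgroup G}, Nat.card Q = p → p.Prime → 2 < p → ∀ y ∈ Q, y ≠ 1 →
      y * y ∈ Q ∧ y * y ≠ 1 := by
    intro p Q hQ hp hp2 y hy hy1
    refine ⟨mul_mem hy hy, fun e => hy1 ?_⟩
    have h1 : orderOf y ∣ 2 := orderOf_dvd_of_pow_eq_one (by rw [pow_two, e])
    have h2 : orderOf y ∣ p := hQ ▸ Subgroup.orderOf_dvd_natCard Q hy
    exact orderOf_eq_one_iff.1 (Nat.eq_one_of_dvd_coprimes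
      ((Nat.coprime_primes Nat.prime_two hp).2 (by omega)) h1 h2)
  have hcharA := DegreePTwo.isCharacter_extSquare (IsIrrCharacter.isCharacter χ.2)
  have hcharS := M12Uniq.isCharacter_symSquare (IsIrrCharacter.isCharacter χ.2)
  -- the value at an involution commuting with an element of order 7
  have hinv : ∀ (ψ : IrrCharacter G) (x z : G), orderOf x = 7 → orderOf z = 2 → x * z = z * x →
      dg ψ ∈ [22, 230, 253] → ∃ k : ℕ, (dg ψ : ℂ) + (ψ : G → ℂ) z = (14 * k : ℕ) := by
    intro ψ x z hx hz hxz hd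
    obtain ⟨P, hP⟩ := zpowers_eq_sylow (G := G) (p := 7) (m := 1457280) (by rw [L.card]; norm_num) (by norm_num) hx
    haveI : Fintype (P : Subgroup G) := Fintype.ofFinite _
    obtain ⟨X, Y, δ, F, -, -, -, hk⟩ := pfam_at (p := 7) (e := 3) (k := 2) (by norm_num)
      (fun x hx => by rw [L.c7 x hx]) (fun Q => by rw [L.n7 Q]) P (L.sylow_card (by norm_num) (by norm_num) P)
    obtain ⟨h1, h2⟩ := not_mem_seven L F hd
    refine hk rfl ψ h1 h2 z hz ?_
    rw [← hP, centralizer_zpowers, Subgroup.mem_centralizer_singleton_iff]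
    exact hxz.symm
  have hχz : ∀ x z : G, orderOf x = 7 → orderOf z = 2 → x * z = z * x → (χ : G → ℂ) z = 6 := by
    intro x z hx hz hxz
    obtain ⟨k, hk⟩ := hinv χ x z hx hz hxz (by rw [hdeg]; simp)
    have hzz : z * z = 1 := by rw [← pow_two, ← hz, pow_orderOf_eq_one]
    obtain ⟨c, hc, h4, hle⟩ := M12Uniq.involution_mod_four (DefOne.Order7920.hom_eq_one L.not_prime)
      (IsIrrCharacter.isCharacter χ.2) (irr_one_eq_charDegree χ) hzz
    have hlt : |c| < 22 := by
      have hle' : |c| ≤ 22 := by rw [show charDegree (χ : G → ℂ) = 22 from hdeg] at hle; exact_mod_cast hle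
      refine lt_of_le_of_ne hle' fun he => ?_
      have hne : χ ≠ principal G := fun e => by rw [e, dg_principal] at hdeg; omega
      have h := DefOne.Order7920.norm_ne L.not_prime hne (g := z) (fun e => by rw [e, orderOf_one] at hz; omega)
      rw [hc, Complex.norm_intCast, ← Int.cast_abs, he, show charDegree (χ : G → ℂ) = 22 from hdeg] at h
      exact h (by norm_num)
    rw [hc, hdeg] at hk
    have hk' : (22 : ℤ) + c = 14 * (k : ℤ) := by
      have : (((22 : ℤ) + c : ℤ) : ℂ) = ((14 * (k : ℤ) : ℤ) : ℂ) := by push_cast at hk ⊢; exact hk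
      exact_mod_cast this
    rw [show charDegree (χ : G → ℂ) = 22 from hdeg] at h4
    rw [abs_lt] at hlt
    rw [hc, show c = 6 by push_cast at h4; omega]
    norm_num
  -- an involution commuting with an element of order 7
  obtain ⟨x, hx⟩ := exists_prime_orderOf_dvd_card' (G := G) 7 (by rw [L.card]; norm_num)
  obtain ⟨z', hz'⟩ := exists_prime_orderOf_dvd_card' (G := Subgroup.centralizer ({x} : Set G)) 2
    (by rw [L.c7 x hx]; norm_num)
  have hz : orderOf (z' : G) = 2 := by rw [Subgroup.orderOf_coe]; exact hz'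
  have hxz : x * (z' : G) = (z' : G) * x := (Subgroup.mem_centralizer_singleton_iff.1 z'.2).symm
  -- decompositions
  obtain ⟨mA, hmA, hsA, heA⟩ := constituents L Q₁ Q₂ hcharA (D := 231) (by rw [one_mul, hχ1]; norm_num)
    (by norm_num) (v₁ := 22) (v₂ := 0)
    (by rw [fsum_const _ (c := 1) fun y hy hy1 => by
        obtain ⟨h1, h2⟩ := hsqne hQ₁ (by norm_num) (by norm_num) y hy hy1
        rw [hu23 y hy hy1, hu23 _ h1 h2]; norm_num]
        rw [hQ₁]; norm_num)
    (by rw [fsum_const _ (c := 0) fun y hy hy1 => by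
        obtain ⟨h1, h2⟩ := hsqne hQ₂ (by norm_num) (by norm_num) y hy hy1
        rw [hu11 y hy hy1, hu11 _ h1 h2]; norm_num]
        simp)
  obtain ⟨mS, hmS, hsS, heS⟩ := constituents L Q₁ Q₂ hcharS (D := 253) (by rw [one_mul, hχ1]; norm_num)
    le_rfl (v₁ := 0) (v₂ := 0)
    (by rw [fsum_const _ (c := 0) fun y hy hy1 => by
        obtain ⟨h1, h2⟩ := hsqne hQ₁ (by norm_num) (by norm_num) y hy hy1
        rw [hu23 y hy hy1, hu23 _ h1 h2]; norm_num]
        simp)
    (by rw [fsum_const _ (c := 0) fun y hy hy1 => by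
        obtain ⟨h1, h2⟩ := hsqne hQ₂ (by norm_num) (by norm_num) y hy hy1
        rw [hu11 y hy hy1, hu11 _ h1 h2]; norm_num]
        simp)
  set nA : ℕ → ℕ := fun d => ∑ ψ ∈ Finset.univ.filter (fun ψ => dg ψ = d), mA ψ with hnA
  set nS : ℕ → ℕ := fun d => ∑ ψ ∈ Finset.univ.filter (fun ψ => dg ψ = d), mS ψ with hnS
  obtain ⟨a1, a2, a3⟩ := heA nA fun d => rfl
  obtain ⟨s1, s2, s3⟩ := heS nS fun d => rfl
  have hsingle : ∀ {d : ℕ} {ψ : IrrCharacter G} (m : IrrCharacter G → ℕ), degList.count d = 1 → dg ψ = d →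
      ∑ φ ∈ Finset.univ.filter (fun φ => dg φ = d), m φ = m ψ := by
    intro d ψ m hc hψ
    rw [show Finset.univ.filter (fun φ : IrrCharacter G => dg φ = d) = {ψ} from ?_, Finset.sum_singleton]
    exact Finset.eq_singleton_iff_unique_mem.2 ⟨Finset.mem_filter.2 ⟨Finset.mem_univ _, hψ⟩,
      fun φ hφ => L.dg_inj hc (Finset.mem_filter.1 hφ).2 hψ⟩
  -- the principal character occurs once in the square
  have hone : nA 1 + nS 1 = 1 := by
    have hA : classInner (∑ ψ, (mA ψ : ℂ) • (ψ : G → ℂ)) (principal G : G → ℂ) = (mA (principal G) : ℂ) :=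
      classInner_combination _ _
    have hS : classInner (∑ ψ, (mS ψ : ℂ) • (ψ : G → ℂ)) (principal G : G → ℂ) = (mS (principal G) : ℂ) :=
      classInner_combination _ _
    have hadd : classInner (∑ ψ, (mA ψ : ℂ) • (ψ : G → ℂ)) (principal G : G → ℂ) +
        classInner (∑ ψ, (mS ψ : ℂ) • (ψ : G → ℂ)) (principal G : G → ℂ) = 1 := by
      rw [← classInner_add_left, ← hmA, ← hmS, ← classInner_self_irr χ.2]
      simp only [classInner]
      congr 1
      refine Finset.sum_congr rfl fun g _ => ?_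
      rw [hreal g, show conj ((principal G : G → ℂ) g) = 1 from map_one _]
      show (_ + _) * (1 : ℂ) = _
      ring
    rw [hA, hS] at hadd
    simp only [hnA, hnS, hsingle _ (show degList.count 1 = 1 by decide) (dg_principal (G := G))]
    exact_mod_cast hadd
  obtain ⟨a, hdega⟩ := L.exists_dg (show (230 : ℕ) ∈ degList by decide)
  -- the exterior square has no principal constituent
  have hA1 : nA 1 = 0 := by
    by_contra hne
    have e22 : nA 22 = 0 := by omega
    have e45 : nA 45 = 0 := by omega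
    have e230 : nA 230 = 1 := by omega
    have e231 : nA 231 = 0 := by omega
    have e253 : nA 253 = 0 := by omega
    have e1 : nA 1 = 1 := by omega
    have hma : mA a = 1 := (hsingle mA (by decide) hdega).symm.trans e230
    have hmp : mA (principal G) = 1 := (hsingle mA (by decide) (dg_principal (G := G))).symm.trans e1
    have hzero : ∀ ψ, ψ ≠ a → ψ ≠ principal G → mA ψ = 0 := by
      intro ψ h1 h2
      by_contra h0
      have hd := hsA ψ h0
      have hle : mA ψ ≤ nA (dg ψ) := Finset.single_le_sum (f := fun φ => mA φ) (fun _ _ => Nat.zero_le _)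
        (Finset.mem_filter.2 ⟨Finset.mem_univ ψ, rfl⟩)
      simp only [List.mem_cons, List.not_mem_nil, or_false] at hd
      rcases hd with r | r | r | r | r | r
      · exact h2 (L.eq_principal r)
      all_goals first
        | exact h1 (L.dg_inj (by decide) r hdega)
        | (rw [r] at hle; omega)
    have hne' : a ≠ principal G := fun e => by rw [e, dg_principal] at hdega; omega
    have h := congrFun hmA (z' : G)
    rw [Finset.sum_apply, ← Finset.sum_subset (Finset.subset_univ {a, principal G}) (fun ψ _ hψ => by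
        simp only [Finset.mem_insert, Finset.mem_singleton, not_or] at hψ
        rw [Pi.smul_apply, hzero ψ hψ.1 hψ.2, Nat.cast_zero, zero_smul]), Finset.sum_pair hne',
      Pi.smul_apply, Pi.smul_apply, hma, hmp, hχz x _ hx hz hxz,
      show (z' : G) * z' = 1 by rw [← pow_two, ← hz, pow_orderOf_eq_one], hχ1] at h
    have hp : (principal G : G → ℂ) (z' : G) = 1 := rfl
    obtain ⟨k, hk⟩ := hinv a x _ hx hz hxz (by rw [hdega]; simp)
    rw [hdega] at hk
    simp only [Nat.cast_one, one_smul, hp] at h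
    have h' : (236 : ℂ) = ((14 * k : ℕ) : ℂ) := by rw [← hk]; norm_num at h ⊢; linear_combination h
    have : 236 = 14 * k := by exact_mod_cast h'
    omega
  have hS1 : nS 1 = 1 := by omega
  have es : nS 22 = 1 ∧ nS 45 = 0 ∧ nS 230 = 1 ∧ nS 231 = 0 ∧ nS 253 = 0 := by omega
  have ea : nA 22 = 0 ∧ nA 45 = 0 ∧ nA 230 = 0 ∧ nA 231 = 1 ∧ nA 253 = 0 := by omega
  -- the constituent of the exterior square
  obtain ⟨b, hb, hmb⟩ : ∃ b : IrrCharacter G, dg b = 231 ∧ mA b ≠ 0 := by
    by_contra hc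
    push Not at hc
    have : nA 231 = 0 := Finset.sum_eq_zero fun ψ hψ => hc ψ (Finset.mem_filter.1 hψ).2
    omega
  have hle : ∀ (m : IrrCharacter G → ℕ) ψ, m ψ ≤ ∑ φ ∈ Finset.univ.filter (fun φ => dg φ = dg ψ), m φ :=
    fun m ψ => Finset.single_le_sum (f := fun φ => m φ) (fun _ _ => Nat.zero_le _)
      (Finset.mem_filter.2 ⟨Finset.mem_univ ψ, rfl⟩)
  have hAeq : ∑ ψ, (mA ψ : ℂ) • (ψ : G → ℂ) = (b : G → ℂ) := by
    have hmb1 : mA b = 1 := by
      have h := hle mA b
      rw [hb] at h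
      change mA b ≤ nA 231 at h
      omega
    refine eq_single hmb1 fun ψ hψ => ?_
    by_contra h0
    have hd := hsA ψ h0
    have h := hle mA ψ
    simp only [List.mem_cons, List.not_mem_nil, or_false] at hd
    rcases hd with r | r | r | r | r | r <;> rw [r] at h
    · change mA ψ ≤ nA 1 at h; omega
    · change mA ψ ≤ nA 22 at h; omega
    · change mA ψ ≤ nA 45 at h; omega
    · change mA ψ ≤ nA 230 at h; omega
    · have h2 : mA ψ + mA b ≤ nA 231 := by
        rw [← Finset.sum_pair hψ]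
        refine Finset.sum_le_sum_of_subset fun φ hφ => ?_
        rcases Finset.mem_insert.1 hφ with rfl | hφ
        · exact Finset.mem_filter.2 ⟨Finset.mem_univ _, r⟩
        · rw [Finset.mem_singleton.1 hφ]
          exact Finset.mem_filter.2 ⟨Finset.mem_univ _, hb⟩
      omega
    · change mA ψ ≤ nA 253 at h; omega
  have hSeq : ∑ ψ, (mS ψ : ℂ) • (ψ : G → ℂ) = (principal G : G → ℂ) + (χ : G → ℂ) + (a : G → ℂ) := by
    have hm1 : mS (principal G) = 1 := (hsingle mS (by decide) (dg_principal (G := G))).symm.trans hS1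
    have hm2 : mS χ = 1 := (hsingle mS (by decide) hdeg).symm.trans es.1
    have hm3 : mS a = 1 := (hsingle mS (by decide) hdega).symm.trans es.2.2.1
    have n1 : principal G ≠ χ := fun e => by rw [← e, dg_principal] at hdeg; omega
    have n2 : principal G ≠ a := fun e => by rw [← e, dg_principal] at hdega; omega
    have n3 : χ ≠ a := fun e => by rw [e, hdega] at hdeg; omega
    rw [← Finset.sum_subset (Finset.subset_univ {principal G, χ, a}) fun ψ _ hψ => by
      simp only [Finset.mem_insert, Finset.mem_singleton, not_or] at hψ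
      obtain ⟨q1, q2, q3⟩ := hψ
      suffices mS ψ = 0 by rw [this, Nat.cast_zero, zero_smul]
      by_contra h0
      have hd := hsS ψ h0
      have h := hle mS ψ
      simp only [List.mem_cons, List.not_mem_nil, or_false] at hd
      rcases hd with r | r | r | r | r | r
      · exact q1 (L.eq_principal r)
      · exact q2 (huniq ψ r)
      · rw [r] at h; change mS ψ ≤ nS 45 at h; omega
      · exact q3 (L.dg_inj (by decide) r hdega)
      · rw [r] at h; change mS ψ ≤ nS 231 at h; omega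
      · rw [r] at h; change mS ψ ≤ nS 253 at h; omega,
      Finset.sum_insert (by simp [n1, n2]), Finset.sum_pair n3, hm1, hm2, hm3, Nat.cast_one, one_smul,
      one_smul, one_smul, add_assoc]
  exact ⟨χ, a, b, hdeg, hdega, hb, hreal, fun g => congrFun (hmS.trans hSeq) g,
    fun g => congrFun (hmA.trans hAeq) g, hχz⟩

end Cfsg.Agent.M23Uniq
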